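import Cfsg.Agent.Lib.Bender.Consumers.ModRank.Main
import Cfsg.Agent.Lib.Bender.Consumers.DimBound.Pair
import Cfsg.Agent.Lib.Bender.Consumers.DimBound.NoPair

/-!
# Modules in characteristic two for groups with a strongly embedded subgroup: both bounds
-/

set_option autoImplicit false
set_option linter.unusedSectionVars false
set_option linter.style.haveILetI false

namespace CfsgLib.Bender.ModRank

open Subgroup Module CfsgLib.Invol
open CfsgLib.Coprime (conjBy)

universe u v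

variable {G : Type u} [Group G] [Finite G] {H : Subgroup G}

theorem dimLaw : DimLaw.{u, v} := fun _ _ _ _ hH hp _ _ _ _ ρ hρ S _ hk h3 =>
  CfsgLib.Bender.ModDim.dim_ge_of_pair ρ hH hp hρ S hk h3

theorem eightLaw : EightLaw.{u} := fun _ _ _ _ hH hp S hk =>
  CfsgLib.Bender.ModDim.sq_eq_one_of_card_eight hH hp S hk

/-- A conjugate of a strongly embedded subgroup is strongly embedded. -/
theorem stronglyEmbedded_conjBy (hH : Cfsg.IsStronglyEmbedded H) (g : G) :
    Cfsg.IsStronglyEmbedded (conjBy g H) := by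
  obtain ⟨z, hz, hzo⟩ := exists_invol_mem hH.2.1
  refine (stronglyEmbedded_iff (fun e => hH.1 (eq_top_of_card_eq H ?_))
    (even_card_of_invol_mem (CfsgLib.Coprime.conj_mem_conjBy (g := g) hz) (invol_conj hzo g))).2 ?_
  · rw [← CfsgLib.Coprime.card_conjBy g H, e, card_top]
  · intro t ht hto x hx
    rw [CfsgLib.Coprime.mem_conjBy] at ht hx ⊢
    have ho : orderOf (g⁻¹ * t * g) = 2 := by
      have := invol_conj hto g⁻¹; rwa [inv_inv] at this
    refine mem_of_conj_mem hH ht ho ?_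
    rwa [show g⁻¹ * x * g * (g⁻¹ * t * g) * (g⁻¹ * x * g)⁻¹ = g⁻¹ * (x * t * x⁻¹) * g by group]

/-- The subgroup `S ⊓ C(S)` is a frame in a conjugate of `H`. -/
theorem exists_frame (hH : Cfsg.IsStronglyEmbedded H) (S : Sylow 2 G) {n : ℕ} (hn : 2 ≤ n)
    (hexp : ∀ z ∈ (S : Subgroup G) ⊓ centralizer ((S : Subgroup G) : Set G), z ^ 2 = 1)
    (hcard : Nat.card ↥((S : Subgroup G) ⊓ centralizer ((S : Subgroup G) : Set G)) = 2 ^ n) :
    ∃ H' : Subgroup G, Frame H' ((S : Subgroup G) ⊓ centralizer ((S : Subgroup G) : Set G)) n := by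
  classical
  haveI : Fact (Nat.Prime 2) := ⟨Nat.prime_two⟩
  set Zc := (S : Subgroup G) ⊓ centralizer ((S : Subgroup G) : Set G) with hZc
  have hsq : ∀ z ∈ Zc, z * z = 1 := fun z hz => by rw [← pow_two]; exact hexp z hz
  have hinv : ∀ z ∈ Zc, z ≠ 1 → orderOf z = 2 := fun z hz h1 => invol_iff.2 ⟨hsq z hz, h1⟩
  haveI : Nontrivial Zc := Finite.one_lt_card_iff_nontrivial.1 (by
    rw [hcard]; exact Nat.one_lt_pow (by omega) one_lt_two)
  obtain ⟨z, hz, hz1⟩ := (nontrivial_iff_exists_ne_one Zc).1 inferInstance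
  have hzo := hinv z hz hz1
  obtain ⟨t, htH, ht⟩ := exists_invol_mem hH.2.1
  obtain ⟨g, hg⟩ := isConj_iff.1 (exists_conj_fixing hH ht hzo)
  set H' := conjBy g H with hH'def
  have hH' : Cfsg.IsStronglyEmbedded H' := stronglyEmbedded_conjBy hH g
  have hzH : z ∈ H' := hg ▸ CfsgLib.Coprime.conj_mem_conjBy htH
  have hSH : (S : Subgroup G) ≤ H' := le_of_invol hH' S.2 hz.1 hzH hzo
  obtain ⟨w, hw, hw1, hwz⟩ : ∃ w ∈ Zc, w ≠ 1 ∧ w ≠ z := by
    by_contra hno
    push Not at hno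
    have h1 : Zc ≤ zpowers z := fun b hb => by
      by_cases hb1 : b = 1
      · rw [hb1]; exact one_mem _
      · rw [hno b hb hb1]; exact mem_zpowers z
    have h2 := Nat.le_of_dvd Nat.card_pos (card_dvd_of_le h1)
    rw [hcard, Nat.card_zpowers, hzo] at h2
    have : 2 ^ 2 ≤ 2 ^ n := Nat.pow_le_pow_right two_pos hn
    omega
  have hp : CfsgLib.Bender.HasPair G :=
    ⟨z, w, hzo, hinv w hw hw1, hwz.symm, (mem_centralizer_iff.1 hz.2 w hw.1).symm⟩
  have homega : ∀ s ∈ (S : Subgroup G), orderOf s = 2 → s ∈ Zc := fun s hs hso => by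
    refine ⟨hs, mem_centralizer_iff.2 fun p hp' => ?_⟩
    exact (central_of_central hH' hp S hSH hz.1 hzo
      (fun q hq => (mem_centralizer_iff.1 hz.2 q hq).symm) hs hso p hp').eq.symm
  refine ⟨H', hH', hn, hcard, hsq, inf_le_left.trans hSH, fun P hP hle s hs hso => ?_⟩
  obtain ⟨Q, hQ⟩ := hP.exists_le_sylow
  obtain ⟨k, hk⟩ := MulAction.exists_smul_eq G S Q
  have hQS : ∀ x ∈ (Q : Subgroup G), k⁻¹ * x * k ∈ (S : Subgroup G) := fun x hx => by
    rw [← hk, Sylow.coe_subgroup_smul] at hx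
    obtain ⟨y, hy, rfl⟩ := hx
    show k⁻¹ * (k * y * k⁻¹) * k ∈ _
    rw [show k⁻¹ * (k * y * k⁻¹) * k = y by group]
    exact hy
  have hsub : ∀ x ∈ (Q : Subgroup G), orderOf x = 2 → x ∈ conjBy k Zc := fun x hx hxo => by
    rw [CfsgLib.Coprime.mem_conjBy]
    refine homega _ (hQS x hx) ?_
    have := invol_conj hxo k⁻¹; rwa [inv_inv] at this
  have heq : Zc = conjBy k Zc := by
    refine eq_of_le_of_card_ge (fun x hx => ?_) (CfsgLib.Coprime.card_conjBy k Zc).le
    by_cases hx1 : x = 1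
    · rw [hx1]; exact one_mem _
    · exact hsub x (hQ (hle hx)) (hinv x hx hx1)
  rw [heq]
  exact hsub s (hQ hs) hso

variable {V : Type v} [AddCommGroup V] [Module (ZMod 2) V] [Module.Finite (ZMod 2) V]
  (ρ : Representation (ZMod 2) G V)

theorem rho_ne_one (hρ : Function.Injective ρ) {t : G} (ht : t ≠ 1) : ρ t ≠ 1 := fun e =>
  ht (hρ (e.trans (map_one ρ).symm))

/-- The rank bound for the elements of a Sylow two-subgroup. -/
theorem rank_bound (hH : Cfsg.IsStronglyEmbedded H) (hρ : Function.Injective ρ) (S : Sylow 2 G) {n : ℕ}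
    (hexp : ∀ z ∈ (S : Subgroup G) ⊓ centralizer ((S : Subgroup G) : Set G), z ^ 2 = 1)
    (hcard : Nat.card ↥((S : Subgroup G) ⊓ centralizer ((S : Subgroup G) : Set G)) = 2 ^ n)
    {s : G} (hs : s ∈ (S : Subgroup G)) (hs1 : s ≠ 1) : n ≤ rk ρ s := by
  rcases Nat.lt_or_ge n 2 with hn | hn
  · have := rk_pos ρ (rho_ne_one ρ hρ hs1); omega
  obtain ⟨H', hF⟩ := exists_frame hH S hn hexp hcard
  have heven : Even (orderOf s) := by
    obtain ⟨j, hj⟩ := S.2 ⟨s, hs⟩
    obtain ⟨m, -, hm⟩ := (Nat.dvd_prime_pow Nat.prime_two).1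
      (orderOf_dvd_of_pow_eq_one (congrArg Subtype.val hj : s ^ 2 ^ j = 1))
    rw [hm]
    exact Nat.even_pow.2 ⟨even_two, fun e => hs1 (orderOf_eq_one_iff.1 (by rw [hm, e, pow_zero]))⟩
  exact (le_rk dimLaw eightLaw ρ hF (fun t ht => rho_ne_one ρ hρ (invol_ne_one ht)) (orderOf_pow_half heven)).trans
    (rk_pow_le ρ s (orderOf s / 2))

/-- The dimension bound. -/
theorem dim_bound (hH : Cfsg.IsStronglyEmbedded H) (hρ : Function.Injective ρ) (S : Sylow 2 G) {k : ℕ}
    (hk : Nat.card (S : Subgroup G) = 2 ^ k) : 2 * k ≤ finrank (ZMod 2) V := by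
  by_cases hp : CfsgLib.Bender.HasPair G
  swap
  · exact CfsgLib.Bender.ModDim.dim_ge_of_no_pair ρ hH hp hρ S hk
  by_cases h3 : k = 3
  swap
  · exact CfsgLib.Bender.ModDim.dim_ge_of_pair ρ hH hp hρ S hk h3
  subst h3
  have h8 := eightLaw G H hH hp S (by rw [hk]; norm_num)
  have hcomm : ∀ a ∈ (S : Subgroup G), ∀ b ∈ (S : Subgroup G), a * b = b * a := fun a ha b hb => by
    have inv : ∀ c ∈ (S : Subgroup G), c⁻¹ = c := fun c hc =>
      inv_eq_of_mul_eq_one_right (by rw [← pow_two]; exact h8 c hc)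
    calc a * b = (a * b)⁻¹ := (inv _ (mul_mem ha hb)).symm
      _ = b * a := by rw [mul_inv_rev, inv a ha, inv b hb]
  have hZ : (S : Subgroup G) ⊓ centralizer ((S : Subgroup G) : Set G) = (S : Subgroup G) :=
    inf_eq_left.2 fun a ha => mem_centralizer_iff.2 fun b hb => hcomm b hb a ha
  haveI : Nontrivial (S : Subgroup G) := Finite.one_lt_card_iff_nontrivial.1 (by rw [hk]; norm_num)
  obtain ⟨s, hs, hs1⟩ := (nontrivial_iff_exists_ne_one (S : Subgroup G)).1 inferInstance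
  have h1 := rank_bound ρ hH hρ S (n := 3) (fun z hz => h8 z hz.1) (by rw [hZ, hk]) hs hs1
  have h2 := two_mul_rk_le ρ (t := s) (by rw [← pow_two]; exact h8 s hs)
  omega

end CfsgLib.Bender.ModRank
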