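import Mathlib.RepresentationTheory.Basic
import Mathlib.LinearAlgebra.FiniteDimensional.Lemmas
import Mathlib.FieldTheory.Finiteness
import Mathlib.Algebra.Field.ZMod
import Mathlib.Algebra.CharP.Two

/-!
# The rank of an element minus one in a representation over `GF(2)`
-/

set_option autoImplicit false
set_option linter.unusedSectionVars false

namespace CfsgLib.Bender.ModRank

open Module LinearMap

universe u v

instance : Fact (Nat.Prime 2) := ⟨Nat.prime_two⟩

variable {G : Type u} [Group G] {V : Type v} [AddCommGroup V] [Module (ZMod 2) V]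
  [Module.Finite (ZMod 2) V] (ρ : Representation (ZMod 2) G V)

/-- The rank of `g - 1`. -/
noncomputable def rk (g : G) : ℕ := finrank (ZMod 2) ↥(range (ρ g - 1))

theorem mul_apply' (a b : G) (v : V) : ρ (a * b) v = ρ a (ρ b v) := by rw [map_mul]; rfl

theorem inv_apply_self (g : G) (v : V) : ρ g⁻¹ (ρ g v) = v := by
  rw [← mul_apply', inv_mul_cancel, map_one]; rfl

theorem apply_inv_self (g : G) (v : V) : ρ g (ρ g⁻¹ v) = v := by
  rw [← mul_apply', mul_inv_cancel, map_one]; rfl

theorem injective_apply (g : G) : Function.Injective (ρ g) :=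
  Function.LeftInverse.injective (inv_apply_self ρ g)

theorem add_self' (v : V) : v + v = 0 := by
  rw [← two_smul (ZMod 2) v, show (2 : ZMod 2) = 0 by decide, zero_smul]

theorem neg_eq' (v : V) : -v = v := neg_eq_of_add_eq_zero_right (add_self' v)

theorem sub_eq_add' (v w : V) : v - w = v + w := by rw [sub_eq_add_neg, neg_eq']

theorem range_mul_le (a b : G) : range (ρ (a * b) - 1) ≤ range (ρ a - 1) ⊔ range (ρ b - 1) := by
  rintro _ ⟨v, rfl⟩
  have : (ρ (a * b) - 1) v = (ρ a - 1) (ρ b v) + (ρ b - 1) v := by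
    simp only [LinearMap.sub_apply, Module.End.one_apply, mul_apply']; abel
  rw [this]
  exact Submodule.add_mem_sup ⟨_, rfl⟩ ⟨_, rfl⟩

theorem range_pow_le (g : G) : ∀ m : ℕ, range (ρ (g ^ m) - 1) ≤ range (ρ g - 1)
  | 0 => by simp
  | m + 1 => by
    rw [pow_succ]
    exact (range_mul_le ρ _ g).trans (sup_le (range_pow_le g m) le_rfl)

theorem rk_pow_le (g : G) (m : ℕ) : rk ρ (g ^ m) ≤ rk ρ g :=
  Submodule.finrank_mono (range_pow_le ρ g m)

theorem rk_conj (h g : G) : rk ρ (h * g * h⁻¹) = rk ρ g := by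
  have e : range (ρ (h * g * h⁻¹) - 1) = (range (ρ g - 1)).map (ρ h) := by
    ext v
    constructor
    · rintro ⟨w, rfl⟩
      refine ⟨(ρ g - 1) (ρ h⁻¹ w), ⟨_, rfl⟩, ?_⟩
      simp only [LinearMap.sub_apply, Module.End.one_apply, mul_apply', map_sub, apply_inv_self]
    · rintro ⟨_, ⟨w, rfl⟩, rfl⟩
      refine ⟨ρ h w, ?_⟩
      simp only [LinearMap.sub_apply, Module.End.one_apply, mul_apply', map_sub, inv_apply_self]
  unfold rk
  rw [e]
  exact (LinearEquiv.finrank_eq (Submodule.equivMapOfInjective _ (injective_apply ρ h) _)).symm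

theorem range_le_ker {t : G} (ht : t * t = 1) : range (ρ t - 1) ≤ ker (ρ t - 1) := by
  rintro _ ⟨w, rfl⟩
  rw [mem_ker]
  show ρ t (ρ t w - w) - (ρ t w - w) = 0
  rw [map_sub, ← mul_apply', ht, map_one, Module.End.one_apply,
    show w - ρ t w - (ρ t w - w) = (w + w) - (ρ t w + ρ t w) by abel, add_self', add_self', sub_zero]

theorem two_mul_rk_le {t : G} (ht : t * t = 1) : 2 * rk ρ t ≤ finrank (ZMod 2) V := by
  have h1 := Submodule.finrank_mono (range_le_ker ρ ht)
  have h2 := (ρ t - 1).finrank_range_add_finrank_ker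
  unfold rk
  omega

/-- `ker` of the restriction of `ρ` to a submodule and to the quotient. -/
def subRep (U : Submodule (ZMod 2) V) (hU : ∀ g, ∀ v ∈ U, ρ g v ∈ U) : Representation (ZMod 2) G U where
  toFun g := (ρ g).restrict (hU g)
  map_one' := LinearMap.ext fun v => Subtype.ext (by simp)
  map_mul' a b := LinearMap.ext fun v => Subtype.ext (by simp)

/-- The quotient representation. -/
def quotRep (U : Submodule (ZMod 2) V) (hU : ∀ g, ∀ v ∈ U, ρ g v ∈ U) :
    Representation (ZMod 2) G (V ⧸ U) where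
  toFun g := U.mapQ U (ρ g) (fun v hv => hU g v hv)
  map_one' := Submodule.linearMap_qext _ (LinearMap.ext fun v => by simp)
  map_mul' a b := Submodule.linearMap_qext _ (LinearMap.ext fun v => by simp)

theorem subRep_apply (U : Submodule (ZMod 2) V) (hU : ∀ g, ∀ v ∈ U, ρ g v ∈ U) (g : G) (v : U) :
    ((subRep ρ U hU g v : U) : V) = ρ g v := rfl

theorem quotRep_apply (U : Submodule (ZMod 2) V) (hU : ∀ g, ∀ v ∈ U, ρ g v ∈ U) (g : G) (v : V) :
    quotRep ρ U hU g (Submodule.Quotient.mk v) = Submodule.Quotient.mk (ρ g v) := rfl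

/-- The ranks on a submodule and on the quotient add up to at most the rank. -/
theorem rk_add_le (U : Submodule (ZMod 2) V) (hU : ∀ g, ∀ v ∈ U, ρ g v ∈ U) (g : G) :
    rk (subRep ρ U hU) g + rk (quotRep ρ U hU) g ≤ rk ρ g := by
  set R := range (ρ g - 1) with hR
  have e1 : finrank (ZMod 2) ↥(range (subRep ρ U hU g - 1)) ≤ finrank (ZMod 2) ↥(R ⊓ U) := by
    rw [← LinearEquiv.finrank_eq (Submodule.equivMapOfInjective U.subtype U.injective_subtype _).symm]
    refine Submodule.finrank_mono ?_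
    rintro _ ⟨_, ⟨w, rfl⟩, rfl⟩
    exact ⟨⟨w, rfl⟩, (((subRep ρ U hU g - 1) w : U)).2⟩
  have e2 : range (quotRep ρ U hU g - 1) = R.map U.mkQ := by
    ext q
    constructor
    · rintro ⟨p, rfl⟩
      obtain ⟨w, rfl⟩ := Submodule.Quotient.mk_surjective _ p
      exact ⟨_, ⟨w, rfl⟩, rfl⟩
    · rintro ⟨_, ⟨w, rfl⟩, rfl⟩
      exact ⟨Submodule.Quotient.mk w, rfl⟩
  have e3 := (U.mkQ.domRestrict R).finrank_range_add_finrank_ker
  rw [LinearMap.range_domRestrict, LinearMap.ker_domRestrict, Submodule.ker_mkQ,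
    LinearEquiv.finrank_eq (Submodule.equivMapOfInjective R.subtype R.injective_subtype _),
    Submodule.map_comap_subtype, ← e2] at e3
  unfold rk
  rw [← hR]
  omega

/-- An invariant subspace has zero or at least as many. -/
theorem rk_sub_le (U : Submodule (ZMod 2) V) (hU : ∀ g, ∀ v ∈ U, ρ g v ∈ U) (g : G) :
    rk (subRep ρ U hU) g ≤ rk ρ g :=
  le_trans (Nat.le_add_right _ _) (rk_add_le ρ U hU g)

theorem rk_quot_le (U : Submodule (ZMod 2) V) (hU : ∀ g, ∀ v ∈ U, ρ g v ∈ U) (g : G) :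
    rk (quotRep ρ U hU) g ≤ rk ρ g :=
  le_trans (Nat.le_add_left _ _) (rk_add_le ρ U hU g)

theorem rk_pos {g : G} (hg : ρ g ≠ 1) : 1 ≤ rk ρ g := by
  unfold rk
  rw [Nat.one_le_iff_ne_zero]
  intro h
  rw [Submodule.finrank_eq_zero, LinearMap.range_eq_bot, sub_eq_zero] at h
  exact hg h

/-- Pull a representation back along a homomorphism. -/
theorem rk_comp {G' : Type*} [Group G'] (φ : G' →* G) (g : G') :
    rk (ρ.comp φ : Representation (ZMod 2) G' V) g = rk ρ (φ g) := rfl

end CfsgLib.Bender.ModRank
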