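import Cfsg.Agent.Lib.Bender.Consumers.ModRank.Frame
import Cfsg.Agent.Lib.Coprime.Action

/-!
# A central core: elements of a two-point stabilizer
-/

set_option autoImplicit false
set_option linter.unusedSectionVars false
set_option linter.style.haveILetI false

namespace CfsgLib.Bender.ModRank

open Subgroup CfsgLib.Invol

universe u

variable {G : Type u} [Group G] [Finite G] {H Z : Subgroup G} {n : ℕ}

/-- The stabilizer of the base coset and of the coset of `i`. -/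
def twoStab (H : Subgroup G) (i : G) : Subgroup G := H ⊓ H.map (MulAut.conj i).toMonoidHom

theorem mem_twoStab {i c : G} : c ∈ twoStab H i ↔ c ∈ H ∧ i⁻¹ * c * i ∈ H := by
  rw [twoStab, mem_inf, Subgroup.mem_map]
  refine and_congr Iff.rfl ⟨?_, fun hc => ⟨_, hc, by simp [mul_assoc]⟩⟩
  rintro ⟨x, hx, rfl⟩
  simpa [mul_assoc] using hx

/-- An element fixing three points commutes with an involution at one of them. -/
theorem exists_invol_of_three (hH : Cfsg.IsStronglyEmbedded H) (hp : CfsgLib.Bender.HasPair G)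
    (hN : ∀ m ∈ H.normalCore, ∀ x : G, Commute m x) {c g a b : G} (hg : g⁻¹ * c * g ∈ H)
    (ha : a⁻¹ * c * a ∈ H) (hb : b⁻¹ * c * b ∈ H) (hga : g⁻¹ * a ∉ H) (hgb : g⁻¹ * b ∉ H) (hab : a⁻¹ * b ∉ H) :
    ∃ t, orderOf t = 2 ∧ g⁻¹ * t * g ∈ H ∧ Commute t c := by
  obtain ⟨W, hW⟩ := exists_regMod hH hp
  set e := g⁻¹ * c * g with he
  set a' := g⁻¹ * a with ha'
  set b' := g⁻¹ * b with hb'
  obtain ⟨x, hx, hxH⟩ := hW.trans a' b' hga hgb
  have hea : a'⁻¹ * e⁻¹ * a' ∈ H := by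
    have := H.inv_mem ha
    rwa [show (a⁻¹ * c * a)⁻¹ = a'⁻¹ * e⁻¹ * a' by rw [ha', he]; group] at this
  have heb : b'⁻¹ * e * b' ∈ H := by
    rwa [show b'⁻¹ * e * b' = b⁻¹ * c * b by rw [hb', he]; group]
  have hy : x⁻¹ * (e * x * e⁻¹) ∈ H.normalCore := by
    refine hW.free a' hga _ (W.mul_mem (W.inv_mem hx) (hW.conj e hg x hx)) ?_
    have h1 := H.mul_mem (H.inv_mem hxH) (H.mul_mem (H.mul_mem heb hxH) hea)
    rwa [show (b'⁻¹ * (x * a'))⁻¹ * (b'⁻¹ * e * b' * (b'⁻¹ * (x * a')) * (a'⁻¹ * e⁻¹ * a')) =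
      a'⁻¹ * (x⁻¹ * (e * x * e⁻¹)) * a' by group] at h1
  have hxN : x ∉ H.normalCore := fun h1 => by
    refine hab ?_
    have h2 := H.normalCore_le ((inferInstance : H.normalCore.Normal).conj_mem x h1 b'⁻¹)
    have h3 := H.inv_mem (H.mul_mem (H.inv_mem h2) hxH)
    rwa [show ((b'⁻¹ * x * b'⁻¹⁻¹)⁻¹ * (b'⁻¹ * (x * a')))⁻¹ = a⁻¹ * b by rw [ha', hb']; group] at h3
  -- the two-part of `x` commutes with `e`
  set k := Nat.card H.normalCore with hk
  obtain ⟨j, hj⟩ := hW.two x hx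
  have hy' : (x ^ k) ^ 2 ^ j = 1 := by
    rw [← pow_mul, mul_comm, pow_mul]
    exact congrArg Subtype.val (pow_card_eq_one' (G := H.normalCore) (x := ⟨_, hj⟩))
  have hy1 : x ^ k ≠ 1 := fun e1 => hxN (by
    have hco : (2 ^ j).Coprime (orderOf x) :=
      (Nat.coprime_two_left.2 ((CfsgLib.Bender.Full.odd_normalCore hH).of_dvd_nat (orderOf_dvd_of_pow_eq_one e1))).pow_left j
    obtain ⟨m, hm⟩ := exists_pow_eq_self_of_coprime hco
    rw [← hm]; exact H.normalCore.pow_mem hj m)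
  have hcomm : Commute e (x ^ k) := by
    have h1 : e * x * e⁻¹ = x * (x⁻¹ * (e * x * e⁻¹)) := by group
    have h2 : (e * x * e⁻¹) ^ k = (x * (x⁻¹ * (e * x * e⁻¹))) ^ k := by rw [← h1]
    rw [conj_pow, (show Commute x _ from (hN _ hy x).symm).mul_pow,
      show (x⁻¹ * (e * x * e⁻¹)) ^ k = 1 from congrArg Subtype.val (pow_card_eq_one' (G := H.normalCore) (x := ⟨_, hy⟩)),
      mul_one] at h2
    exact mul_inv_eq_iff_eq_mul.1 h2
  obtain ⟨m, -, hm⟩ := (Nat.dvd_prime_pow Nat.prime_two).1 (orderOf_dvd_of_pow_eq_one hy')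
  have hm0 : m ≠ 0 := fun h0 => hy1 (orderOf_eq_one_iff.1 (by rw [hm, h0, pow_zero]))
  have heven : Even (orderOf (x ^ k)) := by rw [hm]; exact (Nat.even_pow).2 ⟨even_two, hm0⟩
  set t := (x ^ k) ^ (orderOf (x ^ k) / 2) with ht
  refine ⟨g * t * g⁻¹, invol_conj (orderOf_pow_half heven) g, ?_, ?_⟩
  · rw [show g⁻¹ * (g * t * g⁻¹) * g = t by group]
    exact H.pow_mem (H.pow_mem (hW.le hx) _) _
  · have h3 : Commute (g * t * g⁻¹) (g * e * g⁻¹) := by
      have := ((hcomm.pow_right (orderOf (x ^ k) / 2)).symm).map (MulAut.conj g).toMonoidHom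
      simpa using this
    rwa [show g * e * g⁻¹ = c by rw [he]; group] at h3

namespace Frame

variable (h : Frame H Z n) (hN : ∀ m ∈ H.normalCore, ∀ x : G, Commute m x)
include h hN

theorem invol_mem {t : G} (ht : t ∈ H) (hto : orderOf t = 2) : t ∈ Z := by
  obtain ⟨m, hm, hmt⟩ := h.exists_conj_mem ht hto
  rwa [mul_assoc, ← (hN m hm t).eq, inv_mul_cancel_left] at hmt

theorem conj_mem {x z : G} (hx : x ∈ H) (hz : z ∈ Z) : x * z * x⁻¹ ∈ Z := by
  by_cases h1 : z = 1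
  · rw [h1, mul_one, mul_inv_cancel]; exact Z.one_mem
  · exact h.invol_mem hN (H.mul_mem (H.mul_mem hx (h.le hz)) (H.inv_mem hx)) (invol_conj (h.invol hz h1) x)

variable {i : G} (hi : orderOf i = 2) (hiH : i ∉ H)
include hi hiH

theorem core_le_twoStab : H.normalCore ≤ twoStab H i := fun m hm =>
  mem_twoStab.2 ⟨H.normalCore_le hm, by
    rw [mul_assoc, (hN m hm i).eq, inv_mul_cancel_left]; exact H.normalCore_le hm⟩

/-- An element of a two-point stabilizer centralizing an involution at one point centralizes an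
involution at the other. -/
theorem exists_outside {c : G} (hc : c ∈ twoStab H i) {z : G} (hz : z ∈ Z) (hz1 : z ≠ 1) (hcz : Commute c z) :
    ∃ t, orderOf t = 2 ∧ t ∉ H ∧ Commute t c := by
  obtain ⟨hcH, hci⟩ := mem_twoStab.1 hc
  have hzo := h.invol hz hz1
  -- the image of the second point under `z` is a third one
  obtain ⟨t, ht, hti, htc⟩ := exists_invol_of_three h.se h.hasPair hN (g := i) (a := 1) (b := z * i) hci
    (by simpa using hcH) (by
      rw [mul_inv_rev, show i⁻¹ * z⁻¹ * c * (z * i) = i⁻¹ * (z⁻¹ * (c * z)) * i by group, hcz.eq, inv_mul_cancel_left]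
      exact hci)
    (by rw [mul_one, invol_inv hi]; exact hiH)
    (fun hh => hiH ((inv_mem_iff).1 (mem_of_conj_mem h.se (h.le hz) hzo (g := i⁻¹) (by
      rwa [inv_inv, mul_assoc]))))
    (by
      rw [inv_one, one_mul]
      exact fun hh => hiH (by
        have := H.mul_mem (H.inv_mem (h.le hz)) hh
        rwa [inv_mul_cancel_left] at this))
  exact ⟨t, ht, fun htH => hiH ((inv_mem_iff).1 (mem_of_conj_mem h.se htH ht (g := i⁻¹) (by rwa [inv_inv]))), htc⟩

/-- An element of a two-point stabilizer centralized by the swapping involution centralizes an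
involution at the first point. -/
theorem exists_inside {c : G} (hc : c ∈ twoStab H i) (hci : Commute c i) :
    ∃ z ∈ Z, z ≠ 1 ∧ Commute c z := by
  obtain ⟨hcH, hci'⟩ := mem_twoStab.1 hc
  obtain ⟨z, hz, hzo⟩ := h.exists_invol
  obtain ⟨k, hk⟩ := isConj_iff.1 (exists_conj_fixing h.se hzo hi)
  have hkH : k ∉ H := fun hh => hiH (hk ▸ H.mul_mem (H.mul_mem hh (h.le hz)) (H.inv_mem hh))
  have hik : i⁻¹ * k ∉ H := fun hh => hiH (by
    have h1 := H.mul_mem (H.mul_mem hh (h.le hz)) (H.inv_mem hh)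
    rw [show i⁻¹ * k * z * (i⁻¹ * k)⁻¹ = i⁻¹ * (k * z * k⁻¹) * i by group, hk, inv_mul_cancel, one_mul] at h1
    exact h1)
  have hck : k⁻¹ * c * k ∈ H := by
    refine mem_of_conj_mem h.se (h.le hz) hzo ?_
    rw [show k⁻¹ * c * k * z * (k⁻¹ * c * k)⁻¹ = k⁻¹ * (c * (k * z * k⁻¹) * c⁻¹) * k by group, hk, hci.eq,
      mul_inv_cancel_right, ← hk, show k⁻¹ * (k * z * k⁻¹) * k = z by group]
    exact h.le hz
  obtain ⟨t, ht, htH, htc⟩ := exists_invol_of_three h.se h.hasPair hN (g := 1) (a := i) (b := k)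
    (by simpa using hcH) hci' hck (by simpa using hiH) (by simpa using hkH) hik
  rw [inv_one, one_mul, mul_one] at htH
  exact ⟨t, h.invol_mem hN htH ht, invol_ne_one ht, htc.symm⟩

theorem odd_twoStab : Odd (Nat.card (twoStab H i)) := h.se.2.2 i hiH

theorem normalizes_twoStab {c : G} (hc : c ∈ twoStab H i) : i * c * i⁻¹ ∈ twoStab H i := by
  obtain ⟨h1, h2⟩ := mem_twoStab.1 hc
  refine mem_twoStab.2 ⟨?_, ?_⟩
  · rw [invol_inv hi] at h2 ⊢; exact h2
  · rw [show i⁻¹ * (i * c * i⁻¹) * i = c by group]; exact h1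

/-- `r` divides the index of the core in a two-point stabilizer. -/
theorem dvd_index : 2 ^ n - 1 ∣ (H.normalCore.subgroupOf (twoStab H i)).index := by
  classical
  set D := twoStab H i with hD
  letI : MulAction D {z : Z // z ≠ 1} :=
    { smul := fun d z => ⟨⟨(d : G) * (z.1 : G) * (d : G)⁻¹, h.conj_mem hN (mem_twoStab.1 d.2).1 z.1.2⟩,
        fun e => z.2 (Subtype.ext (by
          have := congrArg Subtype.val e
          simp only [OneMemClass.coe_one, mul_inv_eq_one] at this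
          exact mul_eq_left.1 this))⟩
      one_smul := fun z => Subtype.ext (Subtype.ext (by show ((1 : D) : G) * _ * _ = _; simp))
      mul_smul := fun a b z => Subtype.ext (Subtype.ext (by
        show ((a * b : D) : G) * _ * _ = (a : G) * ((b : G) * _ * _) * _
        rw [Subgroup.coe_mul]; group)) }
  haveI : MulAction.IsPretransitive D {z : Z // z ≠ 1} := ⟨fun s t => by
    obtain ⟨d, hd, e⟩ := transitive_two_point h.se (u := i) (h.invol s.1.2 fun e => s.2 (Subtype.ext e))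
      (h.le s.1.2) (h.le t.1.2) (h.invol t.1.2 fun e => t.2 (Subtype.ext e))
    exact ⟨⟨d, hd⟩, Subtype.ext (Subtype.ext e)⟩⟩
  obtain ⟨z, hz, hzo⟩ := h.exists_invol
  let z₀ : {z : Z // z ≠ 1} := ⟨⟨z, hz⟩, fun e => invol_ne_one hzo (congrArg Subtype.val e)⟩
  have hcard : Nat.card {z : Z // z ≠ 1} = 2 ^ n - 1 := by
    haveI := Fintype.ofFinite Z
    rw [Nat.card_eq_fintype_card, Fintype.card_subtype_compl, Fintype.card_subtype_eq, ← Nat.card_eq_fintype_card, h.card]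
  rw [← hcard, ← MulAction.index_stabilizer_of_transitive D z₀]
  refine index_dvd_of_le fun d hd => Subtype.ext (Subtype.ext ?_)
  show (d : G) * z * (d : G)⁻¹ = z
  rw [(hN _ (mem_subgroupOf.1 hd) z).eq, mul_inv_cancel_right]

/-- An element of the two-point stabilizer inverted by `i`, of order dividing `r`, fixing no
involution of `Z`. -/
theorem exists_inverted {r : ℕ} (hr : r.Prime) (hr2 : Odd r) (hdvd : r ∣ 2 ^ n - 1)
    (hprim : ∀ j, 1 ≤ j → j < n → ¬ r ∣ 2 ^ j - 1)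
    (hfaith : ∀ c ∈ twoStab H i, (∀ z ∈ Z, Commute c z) → c ∈ H.normalCore) :
    ∃ d ∈ twoStab H i, d ^ r = 1 ∧ i * d * i⁻¹ = d⁻¹ ∧ ∀ z ∈ Z, Commute d z → z = 1 := by
  classical
  haveI := Fact.mk hr
  set N := H.normalCore with hNdef
  set D := twoStab H i with hD
  have hDodd : Odd (Nat.card D) := h.odd_twoStab hN hi hiH
  have hiD : zpowers i ≤ normalizer (D : Set G) := by
    refine zpowers_le.2 (mem_normalizer_iff.2 fun x => ⟨fun hx => h.normalizes_twoStab hN hi hiH hx, fun hx => ?_⟩)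
    have := h.normalizes_twoStab hN hi hiH hx
    rwa [show i * (i * x * i⁻¹) * i⁻¹ = (i * i) * x * (i * i)⁻¹ by group, invol_mul_self hi, one_mul, inv_one,
      mul_one] at this
  have hcop : (Nat.card (zpowers i)).Coprime (Nat.card D) := by
    rw [Nat.card_zpowers, hi]; exact Nat.coprime_two_left.2 hDodd
  obtain ⟨R, hR, hRi⟩ := CfsgLib.Coprime.exists_invariant_sylow hiD hcop
    (Or.inl (CfsgLib.Coprime.isSolvable_of_isMulCommutative inferInstance)) r
  obtain ⟨c₀, hc₀, hc₀N⟩ : ∃ c ∈ R, c ∉ N := by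
    by_contra hno
    push Not at hno
    have h1 : Nat.card R ∣ Nat.card N := card_dvd_of_le hno
    have h2 := Subgroup.index_mul_card (N.subgroupOf D)
    rw [Nat.card_congr (subgroupOfEquivOfLe (h.core_le_twoStab hN hi hiH)).toEquiv] at h2
    have h3 : r * Nat.card R ∣ Nat.card D := by
      rw [← h2]; exact mul_dvd_mul (hdvd.trans (h.dvd_index hN hi hiH)) h1
    rw [hR.2, ← pow_succ', hr.pow_dvd_iff_le_factorization Nat.card_pos.ne'] at h3
    omega
  -- no element of order `r` modulo the core fixes an involution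
  have hfree : ∀ c ∈ R, c ∉ N → c ^ r ∈ N → ∀ z ∈ Z, Commute c z → z = 1 := by
    intro c hc hcN hcr
    set C := zpowers c with hC
    letI : MulAction C Z :=
      { smul := fun x z => ⟨(x : G) * (z : G) * (x : G)⁻¹, h.conj_mem hN
          ((zpowers_le.2 (mem_twoStab.1 (hR.1 hc)).1) x.2) z.2⟩
        one_smul := fun z => Subtype.ext (by show ((1 : C) : G) * _ * _ = _; simp)
        mul_smul := fun a b z => Subtype.ext (by
          show ((a * b : C) : G) * _ * _ = (a : G) * ((b : G) * _ * _) * _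
          rw [Subgroup.coe_mul]; group) }
    set F := Z ⊓ centralizer ({c} : Set G) with hF
    have hfix : Nat.card (MulAction.fixedPoints C Z) = Nat.card F := by
      refine Nat.card_congr ⟨fun z => ⟨z.1, z.1.2, mem_centralizer_singleton_iff.2 ?_⟩,
        fun z => ⟨⟨z.1, z.2.1⟩, fun x => Subtype.ext ?_⟩, fun z => rfl, fun z => rfl⟩
      · exact (mul_inv_eq_iff_eq_mul.1 (congrArg Subtype.val (z.2 ⟨c, mem_zpowers c⟩))).symm
      · obtain ⟨e, he⟩ := mem_zpowers_iff.1 x.2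
        show (x : G) * (z : G) * (x : G)⁻¹ = z
        rw [← he, ((show Commute c (z : G) from (mem_centralizer_singleton_iff.1 z.2.2).symm).zpow_left e).eq,
          mul_inv_cancel_right]
    have hmod := (hR.isPGroup.to_le (zpowers_le.2 hc)).card_modEq_card_fixedPoints Z
    rw [hfix] at hmod
    obtain ⟨k, hk⟩ := IsPGroup.iff_card.1 (h.isPGroup.to_le (inf_le_left : F ≤ Z))
    have hkn : k ≤ n := by
      have h1 := Nat.le_of_dvd Nat.card_pos (card_dvd_of_le (inf_le_left : F ≤ Z))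
      rw [hk, h.card] at h1
      exact (Nat.pow_le_pow_iff_right one_lt_two).1 h1
    rw [h.card, hk] at hmod
    have h4 : r ∣ 2 ^ k * (2 ^ (n - k) - 1) := by
      rw [Nat.mul_sub, mul_one, ← pow_add, Nat.add_sub_cancel' hkn]
      exact (Nat.modEq_iff_dvd' (Nat.pow_le_pow_right two_pos hkn)).1 hmod.symm
    have h5 : r ∣ 2 ^ (n - k) - 1 :=
      ((Nat.coprime_two_right.2 hr2).pow_right k).dvd_of_dvd_mul_left h4
    intro z hz hcz
    have hzF : z ∈ F := ⟨hz, mem_centralizer_singleton_iff.2 hcz.eq.symm⟩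
    rcases Nat.eq_zero_or_pos k with hk0 | hk0
    · rw [hk0, pow_zero] at hk
      exact mem_bot.1 (eq_bot_of_card_eq F hk ▸ hzF)
    · exfalso
      rcases eq_or_lt_of_le hkn with hkn' | hkn'
      · refine hcN (hfaith c (hR.1 hc) fun w hw => ?_)
        have hFZ : F = Z := eq_of_le_of_card_ge inf_le_left (by rw [hk, h.card, hkn'])
        exact (mem_centralizer_singleton_iff.1 (hFZ.symm ▸ hw : w ∈ F).2).symm
      · exact hprim (n - k) (by omega) (by omega) h5
  have hlast : ∀ c ∈ R, c ∉ N → ∃ j, c ^ r ^ j ∉ N ∧ c ^ r ^ (j + 1) ∈ N := by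
    intro c hc hcN
    obtain ⟨J, hJ⟩ := hR.isPGroup ⟨c, hc⟩
    have hJ' : c ^ r ^ J = 1 := congrArg Subtype.val hJ
    clear hJ
    have hJN : c ^ r ^ J ∈ N := by rw [hJ']; exact N.one_mem
    clear hJ'
    induction J with
    | zero => rw [pow_zero, pow_one] at hJN; exact absurd hJN hcN
    | succ J ih =>
      by_cases h1 : c ^ r ^ J ∈ N
      · exact ih h1
      · exact ⟨J, h1, hJN⟩
  have hsq : ∀ m ∈ N, i * m * i⁻¹ = m⁻¹ → m = 1 := by
    intro m hm e
    rw [← (hN m hm i).eq, mul_inv_cancel_right] at e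
    refine orderOf_eq_one_iff.1 (Nat.eq_one_of_dvd_coprimes (Nat.coprime_two_left.2
      ((CfsgLib.Bender.Full.odd_normalCore h.se).of_dvd_nat (orderOf_dvd_natCard N hm)))
      (orderOf_dvd_of_pow_eq_one ?_) dvd_rfl)
    rw [pow_two]; nth_rewrite 1 [e]; rw [inv_mul_cancel]
  obtain ⟨j, hj, hjr⟩ := hlast c₀ hc₀ hc₀N
  set c := c₀ ^ r ^ j with hc
  have hcR : c ∈ R := R.pow_mem hc₀ _
  have hcr : c ^ r ∈ N := by rwa [hc, ← pow_mul, ← pow_succ]
  have hii : i * i = 1 := invol_mul_self hi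
  set d₀ := i * c * i⁻¹ * c⁻¹ with hd₀
  have hd₀R : d₀ ∈ R := R.mul_mem ((mem_normalizer_iff.1 (hRi (mem_zpowers i)) c).1 hcR) (R.inv_mem hcR)
  have hd₀N : d₀ ∉ N := by
    intro hm
    have h1 : i * d₀ * i⁻¹ = d₀⁻¹ := by
      rw [hd₀, show i * (i * c * i⁻¹ * c⁻¹) * i⁻¹ = (i * i) * c * (i⁻¹ * c⁻¹ * i⁻¹) by group, hii, one_mul,
        invol_inv hi]
      rw [show (i * c * i * c⁻¹)⁻¹ = c * (i⁻¹ * c⁻¹ * i⁻¹) by group, invol_inv hi]
    have h2 := hsq _ hm h1
    have hci : Commute c i := (mul_inv_eq_iff_eq_mul.1 (mul_inv_eq_one.1 h2)).symm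
    obtain ⟨z, hz, hz1, hcz⟩ := h.exists_inside hN hi hiH (hR.1 hcR) hci
    exact hz1 (hfree c hcR hj hcr z hz hcz)
  have hinv₀ : i * d₀ * i⁻¹ = d₀⁻¹ := by
    rw [hd₀, show i * (i * c * i⁻¹ * c⁻¹) * i⁻¹ = (i * i) * c * (i⁻¹ * c⁻¹ * i⁻¹) by group, hii, one_mul,
      invol_inv hi]
    rw [show (i * c * i * c⁻¹)⁻¹ = c * (i⁻¹ * c⁻¹ * i⁻¹) by group, invol_inv hi]
  obtain ⟨j', hj', hjr'⟩ := hlast d₀ hd₀R hd₀N
  set d := d₀ ^ r ^ j' with hd
  have hdi : i * d * i⁻¹ = d⁻¹ := by rw [hd, ← conj_pow, hinv₀, inv_pow]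
  have hdr : d ^ r = 1 := hsq _ (by rwa [hd, ← pow_mul, ← pow_succ]) (by rw [← conj_pow, hdi, inv_pow])
  exact ⟨d, hR.1 (R.pow_mem hd₀R _), hdr, hdi,
    hfree d (R.pow_mem hd₀R _) hj' (by rw [hdr]; exact N.one_mem)⟩

end Frame

end CfsgLib.Bender.ModRank
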