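import Cfsg.Agent.Lib.Bender.Consumers.ModRank.Regular
import Cfsg.Agent.Lib.Bender.Consumers.ModRank.Basic

/-!
# An elementary abelian two-subgroup containing all involutions of its two-overgroups
-/

set_option autoImplicit false
set_option linter.unusedSectionVars false
set_option linter.style.haveILetI false

namespace CfsgLib.Bender.ModRank

open Subgroup CfsgLib.Invol

universe u v

/-- `Z` is elementary abelian of order `2 ^ n`, contains every involution of a two-group containing it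
and lies in the strongly embedded subgroup `H`. -/
structure Frame {G : Type u} [Group G] [Finite G] (H Z : Subgroup G) (n : ℕ) : Prop where
  se : Cfsg.IsStronglyEmbedded H
  two_le : 2 ≤ n
  card : Nat.card Z = 2 ^ n
  sq : ∀ z ∈ Z, z * z = 1
  le : Z ≤ H
  omega : ∀ P : Subgroup G, IsPGroup 2 P → Z ≤ P → ∀ t ∈ P, orderOf t = 2 → t ∈ Z

/-- The property proved by induction: the rank bound for every smaller group or module. -/
def Below (G : Type u) (V : Type v) [AddCommGroup V] [Module (ZMod 2) V] : Prop :=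
  ∀ (G' : Type u) [Group G'] [Finite G'] (V' : Type v) [AddCommGroup V'] [Module (ZMod 2) V']
    [Module.Finite (ZMod 2) V'] (ρ' : Representation (ZMod 2) G' V'),
    Nat.card G' + Module.finrank (ZMod 2) V' < Nat.card G + Module.finrank (ZMod 2) V →
    ∀ (H' Z' : Subgroup G') (n : ℕ), Frame H' Z' n → (∀ t, orderOf t = 2 → ρ' t ≠ 1) →
      ∀ s, orderOf s = 2 → n ≤ rk ρ' s

namespace Frame

variable {G : Type u} [Group G] [Finite G] {H Z : Subgroup G} {n : ℕ} (h : Frame H Z n)
include h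

theorem commute {a b : G} (ha : a ∈ Z) (hb : b ∈ Z) : Commute a b := by
  have inv : ∀ c ∈ Z, c⁻¹ = c := fun c hc => inv_eq_of_mul_eq_one_right (h.sq c hc)
  calc a * b = (a * b)⁻¹ := (inv _ (Z.mul_mem ha hb)).symm
    _ = b * a := by rw [mul_inv_rev, inv a ha, inv b hb]

theorem invol {z : G} (hz : z ∈ Z) (h1 : z ≠ 1) : orderOf z = 2 := invol_iff.2 ⟨h.sq z hz, h1⟩

theorem one_lt_card : 1 < Nat.card Z := by
  rw [h.card]; exact Nat.one_lt_pow (by have := h.two_le; omega) one_lt_two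

theorem exists_invol : ∃ z ∈ Z, orderOf z = 2 := by
  haveI := Finite.one_lt_card_iff_nontrivial.1 h.one_lt_card
  obtain ⟨z, hz, h1⟩ := (nontrivial_iff_exists_ne_one Z).1 inferInstance
  exact ⟨z, hz, h.invol hz h1⟩

theorem isPGroup : IsPGroup 2 Z := IsPGroup.of_card h.card

theorem exists_sylow : ∃ P : Sylow 2 G, Z ≤ P ∧ (P : Subgroup G) ≤ H := by
  haveI : Fact (Nat.Prime 2) := ⟨Nat.prime_two⟩
  obtain ⟨P, hP⟩ := h.isPGroup.exists_le_sylow
  obtain ⟨z, hz, hzo⟩ := h.exists_invol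
  exact ⟨P, hP, le_of_invol h.se P.2 (hP hz) (h.le hz) hzo⟩

theorem hasPair : CfsgLib.Bender.HasPair G := by
  obtain ⟨a, ha, hao⟩ := h.exists_invol
  obtain ⟨b, hb, hb1, hba⟩ : ∃ b ∈ Z, b ≠ 1 ∧ b ≠ a := by
    by_contra hno
    push Not at hno
    have h1 : Z ≤ zpowers a := fun b hb => by
      by_cases hb1 : b = 1
      · rw [hb1]; exact one_mem _
      · rw [hno b hb hb1]; exact mem_zpowers a
    have h2 := Nat.le_of_dvd Nat.card_pos (card_dvd_of_le h1)
    rw [h.card, Nat.card_zpowers, hao] at h2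
    have : 2 ^ 2 ≤ 2 ^ n := Nat.pow_le_pow_right two_pos h.two_le
    omega
  exact ⟨a, b, hao, h.invol hb hb1, hba.symm, h.commute ha hb⟩

/-- Every involution of `H` is conjugate by the core into `Z`. -/
theorem exists_conj_mem {t : G} (ht : t ∈ H) (hto : orderOf t = 2) :
    ∃ m ∈ H.normalCore, m⁻¹ * t * m ∈ Z := by
  obtain ⟨P, hZP, hPH⟩ := h.exists_sylow
  obtain ⟨m, hm, hmP⟩ := exists_core_conj_mem h.se h.hasPair P hPH ht hto
  refine ⟨m, hm, h.omega P P.2 hZP _ hmP ?_⟩
  have := invol_conj hto m⁻¹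
  rwa [inv_inv] at this

/-- An odd normal subgroup lies in `H`. -/
theorem odd_normal_le (K : Subgroup G) [K.Normal] (hK : Odd (Nat.card K)) : K ≤ H := by
  haveI : IsMulCommutative Z := ⟨⟨fun a b => Subtype.ext (h.commute a.2 b.2).eq⟩⟩
  refine CfsgLib.Coprime.le_of_centralizers_le (A := Z) ?_ (le_top.trans (normalizer_eq_top (H := K)).ge) ?_ ?_
  · intro hc
    haveI := hc
    obtain ⟨g, hg⟩ := IsCyclic.exists_ofOrder_eq_natCard (α := Z)
    have h1 : orderOf g ≤ 2 := Nat.le_of_dvd two_pos (orderOf_dvd_of_pow_eq_one (Subtype.ext (by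
      rw [SubgroupClass.coe_pow, pow_two]; exact h.sq _ g.2)))
    rw [hg, h.card] at h1
    have : 2 ^ 2 ≤ 2 ^ n := Nat.pow_le_pow_right two_pos h.two_le
    omega
  · rw [h.card]; exact (Nat.coprime_two_left.2 hK).pow_left n
  · intro a ha ha1 k hk
    refine mem_of_conj_mem h.se (h.le ha) (h.invol ha ha1) ?_
    rw [mem_centralizer_singleton_iff.1 (mem_inf.1 hk).2, mul_inv_cancel_right]
    exact h.le ha

theorem odd_normal_le_core (K : Subgroup G) [K.Normal] (hK : Odd (Nat.card K)) : K ≤ H.normalCore :=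
  normal_le_normalCore.2 (h.odd_normal_le K hK)

/-- The frame of a subgroup containing `Z` and an involution outside `H`. -/
theorem sub {M : Subgroup G} (hZM : Z ≤ M) {i : G} (hi : i ∈ M) (hiH : i ∉ H) :
    Frame (H.subgroupOf M) (Z.subgroupOf M) n := by
  obtain ⟨z, hz, hzo⟩ := h.exists_invol
  refine ⟨⟨fun e => hiH (subgroupOf_eq_top.1 e hi), ?_, ?_⟩, h.two_le, ?_, ?_, ?_, ?_⟩
  · exact even_card_of_invol_mem (H := H.subgroupOf M) (t := ⟨z, hZM hz⟩) (h.le hz) (by rwa [Subgroup.orderOf_mk])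
  · intro g hg
    refine (h.se.2.2 g (fun e => hg e)).of_dvd_nat ?_
    rw [← card_map_of_injective M.subtype_injective]
    refine card_dvd_of_le ?_
    rintro _ ⟨x, ⟨hx1, y, hy, hxy⟩, rfl⟩
    exact ⟨hx1, (y : G), hy, congrArg Subtype.val hxy⟩
  · rw [Nat.card_congr (subgroupOfEquivOfLe hZM).toEquiv, h.card]
  · intro x hx; exact Subtype.ext (h.sq _ hx)
  · exact fun x hx => h.le hx
  · intro P hP hle t ht hto
    refine h.omega (P.map M.subtype) (hP.map _) (fun x hx => ⟨⟨x, hZM hx⟩, hle (by exact hx), rfl⟩) _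
      (mem_map_of_mem _ ht) ?_
    rwa [coe_subtype, Subgroup.orderOf_coe]

/-- The frame of the quotient by an odd normal subgroup. -/
theorem quotient (K : Subgroup G) [K.Normal] (hK : Odd (Nat.card K)) :
    Frame (H.map (QuotientGroup.mk' K)) (Z.map (QuotientGroup.mk' K)) n := by
  haveI : Fact (Nat.Prime 2) := ⟨Nat.prime_two⟩
  have hKH := h.odd_normal_le K hK
  set f := QuotientGroup.mk' K with hf
  have hmem : ∀ g, f g ∈ H.map f ↔ g ∈ H := fun g => by
    refine ⟨?_, fun hh => mem_map_of_mem f hh⟩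
    rintro ⟨x, hx, e⟩
    have h2 := H.mul_mem hx (hKH ((QuotientGroup.eq (s := K)).1 e))
    rwa [mul_inv_cancel_left] at h2
  have hinj : ∀ {P : Subgroup G}, IsPGroup 2 P → ∀ x ∈ P, f x = 1 → x = 1 := by
    intro P hP x hx e
    obtain ⟨j, hj⟩ := hP ⟨x, hx⟩
    exact eq_one_of_odd_of_pow_two (hK.of_dvd_nat (orderOf_dvd_natCard _ ((QuotientGroup.eq_one_iff x).1 e)))
      (congrArg Subtype.val hj)
  -- involutions of the quotient lift
  have hlift : ∀ x, orderOf (f x) = 2 → orderOf (x ^ Nat.card K) = 2 ∧ f (x ^ Nat.card K) = f x := by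
    intro x hx
    have hfb : f (x ^ Nat.card K) = f x := by
      rw [map_pow]
      obtain ⟨c, hc⟩ := hK
      rw [hc, pow_succ, pow_mul, pow_two, invol_mul_self hx, one_pow, one_mul]
    have h1 : x * x ∈ K := (QuotientGroup.eq_one_iff _).1 (show f (x * x) = 1 by rw [map_mul]; exact invol_mul_self hx)
    refine ⟨invol_iff.2 ⟨?_, fun e => invol_ne_one hx (by rw [← hfb, e, map_one])⟩, hfb⟩
    rw [← (Commute.refl x).mul_pow]
    exact congrArg Subtype.val (pow_card_eq_one' (G := K) (x := ⟨_, h1⟩))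
  obtain ⟨z, hz, hzo⟩ := h.exists_invol
  have hfz : orderOf (f z) = 2 := invol_iff.2 ⟨by rw [← map_mul, invol_mul_self hzo, map_one],
    fun e => invol_ne_one hzo (hinj h.isPGroup z hz e)⟩
  refine ⟨(stronglyEmbedded_iff (fun e => h.se.1 (eq_top_iff.2 fun g _ => (hmem g).1 (by rw [e]; exact mem_top _)))
    (even_card_of_invol_mem (mem_map_of_mem f (h.le hz)) hfz)).2 ?_, h.two_le, ?_, ?_, map_mono h.le, ?_⟩
  · rintro _ ⟨a, ha, rfl⟩ hto gb hgb
    obtain ⟨g, rfl⟩ := QuotientGroup.mk'_surjective K gb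
    obtain ⟨hb, hfb⟩ := hlift a hto
    rw [← hfb, ← map_inv, ← map_mul, ← map_mul, hmem] at hgb
    exact (hmem g).2 (mem_of_conj_mem h.se (H.pow_mem ha _) hb hgb)
  · rw [← h.card]
    refine (Nat.card_congr (Equiv.ofBijective (fun x : Z => (⟨f x, mem_map_of_mem f x.2⟩ : Z.map f)) ⟨?_, ?_⟩)).symm
    · intro a b e
      refine Subtype.ext (inv_mul_eq_one.1 (hinj h.isPGroup _ (Z.mul_mem (Z.inv_mem a.2) b.2) ?_))
      rw [map_mul, map_inv, inv_mul_eq_one]; exact congrArg Subtype.val e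
    · rintro ⟨_, x, hx, rfl⟩; exact ⟨⟨x, hx⟩, rfl⟩
  · rintro _ ⟨x, hx, rfl⟩
    rw [← map_mul, h.sq x hx, map_one]
  · intro P hP hle t ht hto
    obtain ⟨Q, hQ⟩ := (h.isPGroup.comap_subtype : IsPGroup 2 (Z.subgroupOf (P.comap f))).exists_le_sylow
    set Q' := (Q : Subgroup (P.comap f)).map (P.comap f).subtype with hQ'
    have hKP : K ≤ P.comap f := fun y hy => by
      show f y ∈ P; rw [show f y = 1 from (QuotientGroup.eq_one_iff y).2 hy]; exact P.one_mem
    -- a Sylow subgroup of the preimage maps onto `P`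
    have hsup : Q' ⊔ K = P.comap f := by
      refine eq_of_le_of_card_ge (_root_.sup_le (map_subtype_le _) hKP) (Nat.le_of_dvd Nat.card_pos ?_)
      obtain ⟨a, ha⟩ := IsPGroup.iff_card.1 hP
      have hc : Nat.card (P.comap f) = 2 ^ a * Nat.card K := by
        have h3 := Subgroup.index_mul_card (f.comp (P.comap f).subtype).ker
        rw [Subgroup.index_ker, MonoidHom.range_comp, range_subtype,
          map_comap_eq_self_of_surjective (QuotientGroup.mk'_surjective K), ha, ← MonoidHom.comap_ker,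
          QuotientGroup.ker_mk', ← subgroupOf, Nat.card_congr (subgroupOfEquivOfLe hKP).toEquiv] at h3
        exact h3.symm
      have hd : 2 ^ a ∣ Nat.card Q' := by
        rw [hQ', card_map_of_injective (P.comap f).subtype_injective, Q.card_eq_multiplicity]
        exact pow_dvd_pow 2 ((Nat.prime_two.pow_dvd_iff_le_factorization Nat.card_pos.ne').1 (Dvd.intro _ hc.symm))
      rw [hc]
      refine dvd_trans (mul_dvd_mul_right hd _) ?_
      refine Nat.Coprime.mul_dvd_of_dvd_of_dvd ?_ (card_dvd_of_le le_sup_left) (card_dvd_of_le le_sup_right)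
      rw [hQ', card_map_of_injective (P.comap f).subtype_injective, Q.card_eq_multiplicity]
      exact (Nat.coprime_two_left.2 hK).pow_left _
    obtain ⟨x, rfl⟩ := QuotientGroup.mk'_surjective K t
    obtain ⟨m, hm, q, hq, rfl⟩ := CfsgLib.Coprime.mem_sup_exists
      (le_top.trans (normalizer_eq_top (H := K)).ge) (show x ∈ K ⊔ Q' by rw [sup_comm, hsup]; exact ht)
    have hfx : f (m * q) = f q := by rw [map_mul, show f m = 1 from (QuotientGroup.eq_one_iff m).2 hm, one_mul]
    rw [hfx] at hto ⊢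
    have hQp : IsPGroup 2 Q' := Q.2.map _
    refine mem_map_of_mem f (h.omega Q' hQp (fun y hy => ⟨⟨y, hle (mem_map_of_mem f hy)⟩, hQ (by exact hy), rfl⟩) q hq ?_)
    exact invol_iff.2 ⟨hinj hQp _ (Q'.mul_mem hq hq) (by rw [map_mul]; exact invol_mul_self hto),
      fun e => invol_ne_one hto (by rw [e, map_one])⟩

end Frame

end CfsgLib.Bender.ModRank
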