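import Cfsg.Agent.Lib.Bender.Consumers.ModRank.Basic
import Mathlib.GroupTheory.PGroup

/-!
# An inverted fixed-point-free torus element forces half rank
-/

set_option autoImplicit false
set_option linter.unusedSectionVars false

namespace CfsgLib.Bender.ModRank

open Module LinearMap

universe u v

variable {G : Type u} [Group G] {V : Type v} [AddCommGroup V] [Module (ZMod 2) V]
  [Module.Finite (ZMod 2) V] (ρ : Representation (ZMod 2) G V)

theorem sub_apply' (g : G) (v : V) : (ρ g - 1) v = ρ g v - v := rfl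

theorem mem_range_sub (g : G) (v : V) : ρ g v - v ∈ range (ρ g - 1) := ⟨v, rfl⟩

theorem odd_nsmul {m : ℕ} (hm : Odd m) (v : V) : m • v = v := by
  obtain ⟨j, rfl⟩ := hm
  rw [add_smul, one_smul, mul_comm, mul_smul, two_smul, add_self', smul_zero, zero_add]

/-- For an element of odd order the kernel and the range of `g - 1` meet trivially. -/
theorem disjoint_ker_range {d : G} {q : ℕ} (hq : Odd q) (hdq : d ^ q = 1) {v : V}
    (hv : v ∈ ker (ρ d - 1)) (hv' : v ∈ range (ρ d - 1)) : v = 0 := by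
  obtain ⟨w, rfl⟩ := hv'
  rw [mem_ker, sub_apply', sub_eq_zero] at hv
  have h1 : ∀ j, ((ρ d) ^ j) ((ρ d - 1) w) = (ρ d - 1) w := by
    intro j
    induction j with
    | zero => simp
    | succ j ih => rw [pow_succ', Module.End.mul_apply, ih, hv]
  have h2 : ∑ j ∈ Finset.range q, ((ρ d) ^ j) ((ρ d - 1) w) = 0 := by
    have h := geom_sum_mul (ρ d) q
    rw [← map_pow, hdq, map_one, sub_self] at h
    have := LinearMap.congr_fun h w
    rwa [Module.End.mul_apply, LinearMap.zero_apply, LinearMap.sum_apply] at this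
  rw [Finset.sum_congr rfl fun j _ => h1 j, Finset.sum_const, Finset.card_range, odd_nsmul hq] at h2
  exact h2

theorem isCompl_ker_range {d : G} {q : ℕ} (hq : Odd q) (hdq : d ^ q = 1) :
    ker (ρ d - 1) ⊔ range (ρ d - 1) = ⊤ ∧ ker (ρ d - 1) ⊓ range (ρ d - 1) = ⊥ := by
  have hdis : ker (ρ d - 1) ⊓ range (ρ d - 1) = ⊥ :=
    (Submodule.eq_bot_iff _).2 fun v hv => disjoint_ker_range ρ hq hdq hv.1 hv.2
  refine ⟨Submodule.eq_top_of_finrank_eq ?_, hdis⟩
  have h1 := Submodule.finrank_sup_add_finrank_inf_eq (ker (ρ d - 1)) (range (ρ d - 1))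
  rw [hdis, finrank_bot] at h1
  have h2 := (ρ d - 1).finrank_range_add_finrank_ker
  omega

/-- A subspace on which an inverted element has no fixed point is at most twice the rank of the involution there. -/
theorem finrank_le_two_mul_map {d i : G} {q : ℕ} (hq : Odd q) (hdq : d ^ q = 1) (hi : i * i = 1)
    (hid : i * d * i⁻¹ = d⁻¹) (U : Submodule (ZMod 2) V) (hUd : ∀ v ∈ U, ρ d v ∈ U)
    (hUi : ∀ v ∈ U, ρ i v ∈ U) (hfpf : ∀ v ∈ U, ρ d v = v → v = 0) :
    finrank (ZMod 2) U ≤ 2 * finrank (ZMod 2) ↥(U.map (ρ i - 1)) := by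
  obtain ⟨e, he⟩ : ∃ e, 2 * e = q + 1 := by obtain ⟨j, rfl⟩ := hq; exact ⟨j + 1, by ring⟩
  have hpowU : ∀ m : ℕ, ∀ v ∈ U, ρ (d ^ m) v ∈ U := by
    intro m
    induction m with
    | zero => intro v hv; rwa [pow_zero, map_one]
    | succ m ih => intro v hv; rw [pow_succ, mul_apply']; exact ih _ (hUd v hv)
  have hinvd : (d ^ e)⁻¹ = d ^ (q * e - e) := by
    refine inv_eq_of_mul_eq_one_right ?_
    have : e ≤ q * e := Nat.le_mul_of_pos_left e hq.pos
    rw [← pow_add, Nat.add_sub_cancel' this, pow_mul, hdq, one_pow]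
  have hswap : i * d = (d ^ e)⁻¹ * i * d ^ e := by
    have h1 : ∀ m : ℕ, i * d ^ m = (d ^ m)⁻¹ * i := fun m => by
      have : i * d ^ m * i⁻¹ = (d ^ m)⁻¹ := by rw [← conj_pow, hid, inv_pow]
      rw [← this, inv_mul_cancel_right]
    rw [← h1, mul_assoc, ← pow_add, ← two_mul, he, pow_succ, hdq, one_mul]
  have hsurj : U.map (ρ d - 1) = U := by
    have hle : U.map (ρ d - 1) ≤ U := by
      rintro _ ⟨v, hv, rfl⟩
      exact U.sub_mem (hUd v hv) hv
    refine Submodule.eq_of_le_of_finrank_eq hle ?_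
    have h1 := ((ρ d - 1).domRestrict U).finrank_range_add_finrank_ker
    rw [LinearMap.range_domRestrict] at h1
    have h2 : ker ((ρ d - 1).domRestrict U) = ⊥ := (Submodule.eq_bot_iff _).2 fun v hv => by
      rw [mem_ker, LinearMap.domRestrict_apply, sub_apply', sub_eq_zero] at hv
      exact Subtype.ext (hfpf v v.2 hv)
    rw [h2, finrank_bot] at h1
    omega
  have hUi' : ∀ v ∈ U, ρ (i * d) v ∈ U := fun v hv => by rw [mul_apply']; exact hUi _ (hUd v hv)
  have hle : U ≤ U.map (ρ i - 1) ⊔ (U.map (ρ i - 1)).map (ρ (d ^ e)⁻¹) := by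
    intro u hu
    rw [← hsurj] at hu
    obtain ⟨v, hv, rfl⟩ := hu
    have e1 : (ρ d - 1) v = (ρ i - 1) (ρ (i * d) v) + (ρ (i * d) v - v) := by
      have : ρ i (ρ (i * d) v) = ρ d v := by rw [← mul_apply', ← mul_assoc, hi, one_mul]
      rw [sub_apply', sub_apply', this]; abel
    rw [e1]
    refine Submodule.add_mem_sup ⟨_, hUi' v hv, rfl⟩ ⟨(ρ i - 1) (ρ (d ^ e) v), ⟨_, hpowU e v hv, rfl⟩, ?_⟩
    rw [sub_apply', map_sub, inv_apply_self, ← mul_apply', ← mul_apply', ← hswap]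
  have h1 := Submodule.finrank_mono hle
  have h2 := Submodule.finrank_sup_add_finrank_inf_eq (U.map (ρ i - 1)) ((U.map (ρ i - 1)).map (ρ (d ^ e)⁻¹))
  have h3 := LinearEquiv.finrank_eq
    (Submodule.equivMapOfInjective _ (injective_apply ρ (d ^ e)⁻¹) (U.map (ρ i - 1)))
  omega

theorem fpf_rank {d i : G} {q : ℕ} (hq : Odd q) (hdq : d ^ q = 1) (hi : i * i = 1)
    (hid : i * d * i⁻¹ = d⁻¹) (U : Submodule (ZMod 2) V) (hUd : ∀ v ∈ U, ρ d v ∈ U)
    (hUi : ∀ v ∈ U, ρ i v ∈ U) (hfpf : ∀ v ∈ U, ρ d v = v → v = 0) :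
    finrank (ZMod 2) U ≤ 2 * rk ρ i :=
  (finrank_le_two_mul_map ρ hq hdq hi hid U hUd hUi hfpf).trans
    (Nat.mul_le_mul_left 2 (Submodule.finrank_mono LinearMap.map_le_range))

/-- `ker` and `range` of `d - 1` are invariant under an inverting involution. -/
theorem ker_range_invariant {d i : G} (hid : i * d * i⁻¹ = d⁻¹) (hi : i * i = 1) :
    (∀ v ∈ ker (ρ d - 1), ρ i v ∈ ker (ρ d - 1)) ∧ (∀ v ∈ range (ρ d - 1), ρ i v ∈ range (ρ d - 1)) := by
  have hswap : d * i = i * d⁻¹ := by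
    have h : i * d⁻¹ * i⁻¹ = d := by rw [← conj_inv, hid, inv_inv]
    nth_rewrite 1 [← h]
    rw [inv_mul_cancel_right]
  constructor
  · intro v hv
    rw [mem_ker, sub_apply', sub_eq_zero] at hv ⊢
    rw [← mul_apply', hswap, mul_apply']
    conv_lhs => rw [← hv, inv_apply_self]
  · rintro _ ⟨w, rfl⟩
    have hid' : i * d = d⁻¹ * i := by rw [← hid, inv_mul_cancel_right]
    refine ⟨-(ρ d⁻¹ (ρ i w)), ?_⟩
    rw [sub_apply', sub_apply', map_neg, map_sub, apply_inv_self, ← mul_apply' ρ i d, hid', mul_apply']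
    abel

section

variable (Z : Subgroup G) [Finite Z] {d i : G} {q : ℕ}

/-- The common fixed space of `Z`. -/
def fix : Submodule (ZMod 2) V where
  carrier := {v | ∀ z ∈ Z, ρ z v = v}
  add_mem' ha hb := fun z hz => by rw [map_add, ha z hz, hb z hz]
  zero_mem' := fun z _ => map_zero _
  smul_mem' c v hv := fun z hz => by rw [map_smul, hv z hz]

theorem mem_fix {v : V} : v ∈ fix ρ Z ↔ ∀ z ∈ Z, ρ z v = v := Iff.rfl

/-- A proper subspace invariant under a two-group is not the whole fixed space of the quotient. -/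
theorem exists_fixed_mod (hZ : IsPGroup 2 Z) (W : Submodule (ZMod 2) V) (hW : ∀ z ∈ Z, ∀ v ∈ W, ρ z v ∈ W)
    (hne : W ≠ ⊤) : ∃ v, v ∉ W ∧ ∀ z ∈ Z, ρ z v - v ∈ W := by
  classical
  haveI : Nontrivial (V ⧸ W) := Submodule.Quotient.nontrivial_iff.2 hne
  haveI : Finite (V ⧸ W) := Module.finite_of_finite (ZMod 2)
  letI : MulAction Z (V ⧸ W) :=
    { smul := fun z x => W.mapQ W (ρ (z : G)) (fun v hv => hW z z.2 v hv) x
      one_smul := fun x => by
        obtain ⟨v, rfl⟩ := Submodule.Quotient.mk_surjective _ x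
        show Submodule.Quotient.mk (ρ ((1 : Z) : G) v) = _
        rw [OneMemClass.coe_one, map_one]; rfl
      mul_smul := fun a b x => by
        obtain ⟨v, rfl⟩ := Submodule.Quotient.mk_surjective _ x
        show Submodule.Quotient.mk (ρ ((a : G) * b) v) = Submodule.Quotient.mk (ρ (a : G) (ρ (b : G) v))
        rw [mul_apply'] }
  have h0 : (0 : V ⧸ W) ∈ MulAction.fixedPoints Z (V ⧸ W) := fun z => map_zero (W.mapQ W (ρ (z : G)) _)
  have hdvd : 2 ∣ Nat.card (V ⧸ W) := by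
    rw [Module.natCard_eq_pow_finrank (K := ZMod 2), Nat.card_zmod]
    exact dvd_pow_self 2 (Module.finrank_pos).ne'
  obtain ⟨x, hx, hx0⟩ := hZ.exists_fixed_point_of_prime_dvd_card_of_fixed_point (V ⧸ W) hdvd h0
  obtain ⟨v, rfl⟩ := Submodule.Quotient.mk_surjective _ x
  refine ⟨v, fun hv => hx0 ((Submodule.Quotient.mk_eq_zero _).2 hv).symm, fun z hz => ?_⟩
  exact (Submodule.Quotient.eq _).1 (hx ⟨z, hz⟩)

variable (hdZ : ∀ z ∈ Z, d * z * d⁻¹ ∈ Z) (hcomm : ∀ z ∈ Z, ∃ y ∈ Z, d * y * d⁻¹ * y⁻¹ = z)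
include hdZ hcomm

theorem fix_invariant (hq : Odd q) (hdq : d ^ q = 1) : ∀ v ∈ fix ρ Z, ρ d v ∈ fix ρ Z := by
  intro v hv
  have hpow : ∀ m : ℕ, ∀ z ∈ Z, d ^ m * z * (d ^ m)⁻¹ ∈ Z := by
    intro m
    induction m with
    | zero => intro z hz; simpa using hz
    | succ m ih =>
      intro z hz
      rw [show d ^ (m + 1) * z * (d ^ (m + 1))⁻¹ = d ^ m * (d * z * d⁻¹) * (d ^ m)⁻¹ by rw [pow_succ]; group]
      exact ih _ (hdZ z hz)
  intro z hz
  have hd1 : d ^ (q - 1) * d = 1 := by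
    rw [← pow_succ, Nat.sub_add_cancel hq.pos, hdq]
  have he : z * d = d * (d ^ (q - 1) * z * (d ^ (q - 1))⁻¹) := by
    rw [show d ^ (q - 1) = d⁻¹ from eq_inv_of_mul_eq_one_left hd1]; group
  rw [← mul_apply', he, mul_apply', hv _ (hpow _ z hz)]

/-- A crossed map into a part centralized by `d` and `Z` vanishes. -/
theorem hom_kill (W : Submodule (ZMod 2) V) (hWd : ∀ v ∈ W, ρ d v = v) (hWz : ∀ v ∈ W, ∀ z ∈ Z, ρ z v = v)
    {v : V} (hvd : ρ d v = v) (hv : ∀ z ∈ Z, ρ z v - v ∈ W) : ∀ z ∈ Z, ρ z v = v := by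
  intro z hz
  obtain ⟨y, hy, rfl⟩ := hcomm z hz
  have hadd : ∀ a ∈ Z, ∀ b ∈ Z, ρ (a * b) v - v = (ρ a v - v) + (ρ b v - v) := by
    intro a ha b hb
    have := hWz _ (hv b hb) a ha
    rw [map_sub] at this
    rw [mul_apply']
    rw [show ρ a (ρ b v) - v = (ρ a (ρ b v) - ρ a v) + (ρ a v - v) by abel, this]; abel
  have hd' : ρ d⁻¹ v = v := by
    conv_lhs => rw [← hvd, inv_apply_self]
  have h1 : ρ (d * y * d⁻¹) v - v = ρ y v - v := by
    rw [mul_apply', hd', mul_apply']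
    have := hWd _ (hv y hy)
    rwa [map_sub, hvd] at this
  have h2 : ρ y⁻¹ v - v = -(ρ y v - v) := by
    have := hadd y hy y⁻¹ (inv_mem hy)
    rw [mul_inv_cancel, map_one, Module.End.one_apply, sub_self] at this
    exact eq_neg_of_add_eq_zero_right this.symm
  have := hadd _ (hdZ y hy) _ (inv_mem hy)
  rw [h1, h2, add_neg_cancel, sub_eq_zero] at this
  exact this

/-- If `d - 1` is irreducible on its range, twice the rank of an inverting involution is the dimension. -/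
theorem finrank_le_of_irreducible (hZ : IsPGroup 2 Z) (hq : Odd q) (hdq : d ^ q = 1) (hi : i * i = 1)
    (hid : i * d * i⁻¹ = d⁻¹) (hgen : Subgroup.closure (insert i (Z : Set G)) = ⊤)
    (hirrG : ∀ U : Submodule (ZMod 2) V, (∀ g, ∀ v ∈ U, ρ g v ∈ U) → U = ⊥ ∨ U = ⊤)
    (hnt : ∃ z ∈ Z, ρ z ≠ 1)
    (hirrL : ∀ U : Submodule (ZMod 2) V, U ≤ range (ρ d - 1) → (∀ v ∈ U, ρ d v ∈ U) →
      U = ⊥ ∨ U = range (ρ d - 1)) :
    finrank (ZMod 2) V ≤ 2 * rk ρ i := by
  classical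
  set L := range (ρ d - 1) with hL
  set C := ker (ρ d - 1) with hC
  set W := fix ρ Z with hW
  obtain ⟨hsup, hinf⟩ := isCompl_ker_range ρ hq hdq
  rw [← hC, ← hL] at hsup hinf
  obtain ⟨hiC, hiL⟩ := ker_range_invariant ρ hid hi
  rw [← hC] at hiC; rw [← hL] at hiL
  have hWd := fix_invariant ρ Z hdZ hcomm hq hdq
  have hCmem : ∀ v, v ∈ C ↔ ρ d v = v := fun v => by rw [hC, mem_ker, sub_apply', sub_eq_zero]
  have hLd : ∀ v ∈ L, ρ d v ∈ L := fun v ⟨w, hw⟩ => ⟨ρ d w, by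
    rw [← hw, sub_apply', sub_apply', map_sub]⟩
  set U : Submodule (ZMod 2) V := ⨆ z : Z, range (ρ (z : G) - 1) with hU
  have hUle : ∀ (P : Submodule (ZMod 2) V), (∀ z ∈ Z, ∀ v, ρ z v - v ∈ P) → U ≤ P := fun P hP =>
    iSup_le fun z => by rintro _ ⟨w, rfl⟩; exact hP z z.2 w
  have hUmem : ∀ z ∈ Z, ∀ v, ρ z v - v ∈ U := fun z hz v =>
    le_iSup (fun z : Z => range (ρ (z : G) - 1)) ⟨z, hz⟩ ⟨v, rfl⟩
  -- invariant subspaces from pairs
  have hinv : ∀ J : Submodule (ZMod 2) V, (∀ v ∈ J, ρ i v ∈ J) → (∀ z ∈ Z, ∀ v ∈ J, ρ z v ∈ J) →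
      J = ⊥ ∨ J = ⊤ := by
    intro J hJi hJz
    refine hirrG J fun g => ?_
    have hg : g ∈ Subgroup.closure (insert i (Z : Set G)) := hgen ▸ Subgroup.mem_top g
    induction hg using Subgroup.closure_induction with
    | mem g hg =>
      rcases hg with rfl | hg
      exacts [hJi, hJz g hg]
    | one => intro v hv; rw [map_one]; exact hv
    | mul x y _ _ hx hy => intro v hv; rw [mul_apply']; exact hx _ (hy _ hv)
    | inv x _ hx =>
      intro v hv
      have hbij : J.map (ρ x) = J := by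
        refine Submodule.eq_of_le_of_finrank_eq ?_
          (LinearEquiv.finrank_eq (Submodule.equivMapOfInjective _ (injective_apply ρ x) _)).symm
        rintro _ ⟨w, hw, rfl⟩
        exact hx w hw
      obtain ⟨w, hw, rfl⟩ : v ∈ J.map (ρ x) := hbij.symm ▸ hv
      rw [inv_apply_self]
      exact hw
  obtain ⟨z₀, hz₀, hz₀1⟩ := hnt
  have hWtop : W ≠ ⊤ := fun e => hz₀1 (LinearMap.ext fun v => (e ▸ Submodule.mem_top : v ∈ W) z₀ hz₀)
  have hWi : ∀ v ∈ W, ρ i v ∈ W → v = 0 := by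
    intro v hv hv'
    rcases hinv (W ⊓ W.comap (ρ i))
      (fun w hw => ⟨hw.2, by
        show ρ i (ρ i w) ∈ W
        rw [← mul_apply', hi, map_one]; exact hw.1⟩)
      (fun z hz w hw => by rw [show ρ z w = w from hw.1 z hz]; exact hw) with h | h
    · exact (Submodule.eq_bot_iff _).1 h v ⟨hv, hv'⟩
    · exact absurd (top_le_iff.1 (h.symm.le.trans inf_le_left)) hWtop
  -- the commutator space lies in `W + L`
  have hkey : ∀ v ∈ (U ⊔ L) ⊓ C, v ∈ W := by
    have hLW : L ≤ W ∨ W ≤ C := by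
      rcases hirrL (W ⊓ L) inf_le_right (fun v hv => ⟨hWd v hv.1, hLd v hv.2⟩) with h | h
      · refine Or.inr fun v hv => (hCmem v).2 ?_
        have h1 : ρ d v - v ∈ W ⊓ L := ⟨W.sub_mem (hWd v hv) hv, ⟨v, rfl⟩⟩
        rw [h, Submodule.mem_bot, sub_eq_zero] at h1
        exact h1
      · exact Or.inl (h.symm.le.trans inf_le_left)
    -- a subspace containing `L` and invariant under `Z` absorbs all commutators
    have habsorb : ∀ P : Submodule (ZMod 2) V, L ≤ P → (∀ z ∈ Z, ∀ v ∈ P, ρ z v ∈ P) → U ≤ P := by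
      intro P hLP hPz
      refine hUle P fun z hz v => ?_
      obtain ⟨y, hy, rfl⟩ := hcomm z hz
      have hd : ∀ w, ρ d w - w ∈ P := fun w => hLP ⟨w, rfl⟩
      -- `d y d⁻¹` and `y` agree modulo `P`
      set u := ρ y⁻¹ v with hu
      have e1 : ρ (d * y * d⁻¹ * y⁻¹) v - v =
          (ρ d (ρ y (ρ d⁻¹ u)) - ρ y (ρ d⁻¹ u)) + ρ y (ρ d⁻¹ u - u) := by
        rw [mul_apply', mul_apply', mul_apply', map_sub, hu, apply_inv_self]
        abel
      rw [e1]
      refine P.add_mem (hd _) (hPz y hy _ ?_)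
      have := hd (ρ d⁻¹ u)
      rw [apply_inv_self] at this
      rw [← neg_sub]
      exact P.neg_mem this
    rintro v ⟨hvU, hvC⟩
    rcases hLW with hLW | hWC
    · exact sup_le (habsorb W hLW fun z hz w hw => by rw [hw z hz]; exact hw) hLW hvU
    · set W2 : Submodule (ZMod 2) V :=
        { carrier := {w | ∀ z ∈ Z, ρ z w - w ∈ W}
          add_mem' := fun {a b} ha hb z hz => by
            rw [map_add, show ρ z a + ρ z b - (a + b) = (ρ z a - a) + (ρ z b - b) by abel]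
            exact W.add_mem (ha z hz) (hb z hz)
          zero_mem' := fun z _ => by rw [map_zero, sub_zero]; exact W.zero_mem
          smul_mem' := fun c a ha z hz => by
            rw [map_smul, ← smul_sub]; exact W.smul_mem c (ha z hz) } with hW2
      have hW2C : ∀ w, w ∈ W2 → w ∈ C → w ∈ W := fun w hw hwC =>
        hom_kill ρ Z hdZ hcomm W (fun x hx => (hCmem x).1 (hWC hx)) (fun x hx => hx) ((hCmem w).1 hwC) hw
      have hW2d : ∀ w ∈ W2, ρ d w ∈ W2 := by
        intro w hw z hz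
        have hd1 : d ^ (q - 1) * d = 1 := by rw [← pow_succ, Nat.sub_add_cancel hq.pos, hdq]
        have hz' : d⁻¹ * z * d ∈ Z := by
          have hpow : ∀ m : ℕ, d ^ m * z * (d ^ m)⁻¹ ∈ Z := by
            intro m
            induction m with
            | zero => simpa using hz
            | succ m ih =>
              rw [show d ^ (m + 1) * z * (d ^ (m + 1))⁻¹ = d * (d ^ m * z * (d ^ m)⁻¹) * d⁻¹ by
                rw [pow_succ']; group]
              exact hdZ _ ih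
          have := hpow (q - 1)
          rwa [show d ^ (q - 1) = d⁻¹ from eq_inv_of_mul_eq_one_left hd1, inv_inv] at this
        have := hWd _ (hw _ hz')
        rw [map_sub, ← mul_apply', show d * (d⁻¹ * z * d) = z * d by group, mul_apply'] at this
        exact this
      obtain ⟨w, hwW, hw⟩ := exists_fixed_mod ρ Z hZ W (fun z hz x hx => by rw [hx z hz]; exact hx) hWtop
      have hLW2 : L ≤ W2 := by
        rcases hirrL (W2 ⊓ L) inf_le_right (fun x hx => ⟨hW2d x hx.1, hLd x hx.2⟩) with h | h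
        · refine absurd (hW2C w hw ((hCmem w).2 ?_)) hwW
          have h1 : ρ d w - w ∈ W2 ⊓ L := ⟨W2.sub_mem (hW2d w hw) hw, ⟨w, rfl⟩⟩
          rwa [h, Submodule.mem_bot, sub_eq_zero] at h1
        · exact h.symm.le.trans inf_le_left
      have hW2z : ∀ z ∈ Z, ∀ x ∈ W2, ρ z x ∈ W2 := fun z hz x hx => by
        have h1 : ρ z x - x ∈ W2 := fun z' hz' => by
          rw [(hx z hz : ρ z x - x ∈ W) z' hz', sub_self]
          exact W.zero_mem
        have := W2.add_mem h1 hx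
        rwa [sub_add_cancel] at this
      exact hW2C v (sup_le (habsorb W2 hLW2 hW2z) hLW2 hvU) hvC
  -- dimensions
  set P := (U ⊔ L) ⊓ C with hP
  have hUL : P ⊔ L = U ⊔ L := by
    rw [hP, inf_comm, sup_comm, ← sup_inf_assoc_of_le C le_sup_right, sup_comm L C, hsup, top_inf_eq]
  have hPi : ∀ v ∈ P, ρ i v ∈ P → v = 0 := fun v hv hv' => hWi v (hkey v hv) (hkey _ hv')
  have htop : (U ⊔ L) ⊔ (U ⊔ L).map (ρ i) = ⊤ := by
    rcases hinv ((U ⊔ L) ⊔ (U ⊔ L).map (ρ i))
      (fun v hv => by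
        obtain ⟨a, ha, _, ⟨b, hb, rfl⟩, rfl⟩ := Submodule.mem_sup.1 hv
        rw [map_add, ← mul_apply', hi, map_one]
        exact Submodule.mem_sup.2 ⟨b, hb, _, ⟨a, ha, rfl⟩, add_comm _ _⟩)
      (fun z hz v hv => by
        have h1 : ρ z v - v ∈ (U ⊔ L) ⊔ (U ⊔ L).map (ρ i) :=
          Submodule.mem_sup_left (Submodule.mem_sup_left (hUmem z hz v))
        have := Submodule.add_mem _ h1 hv
        rwa [sub_add_cancel] at this) with h | h
    · exfalso
      refine hz₀1 (LinearMap.ext fun v => sub_eq_zero.1 ((Submodule.mem_bot (ZMod 2)).1 (h ▸ ?_)))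
      exact Submodule.mem_sup_left (Submodule.mem_sup_left (hUmem z₀ hz₀ v))
    · exact h
  have hLle : L ≤ (U ⊔ L) ⊓ (U ⊔ L).map (ρ i) := fun v hv => ⟨Submodule.mem_sup_right hv,
    ⟨ρ i v, Submodule.mem_sup_right (hiL v hv), by rw [← mul_apply', hi, map_one]; rfl⟩⟩
  have d1 := Submodule.finrank_sup_add_finrank_inf_eq (U ⊔ L) ((U ⊔ L).map (ρ i))
  rw [htop, finrank_top] at d1
  have d2 := Submodule.finrank_mono hLle
  have d3 := LinearEquiv.finrank_eq (Submodule.equivMapOfInjective _ (injective_apply ρ i) (U ⊔ L))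
  have d4 := Submodule.finrank_sup_add_finrank_inf_eq P L
  rw [hUL, show P ⊓ L = ⊥ from eq_bot_iff.2 fun v hv => hinf.le ⟨hv.1.2, hv.2⟩, finrank_bot] at d4
  have d5 : finrank (ZMod 2) ↥(P.map (ρ i - 1)) = finrank (ZMod 2) P := by
    have h1 := ((ρ i - 1).domRestrict P).finrank_range_add_finrank_ker
    rw [LinearMap.range_domRestrict] at h1
    have h2 : ker ((ρ i - 1).domRestrict P) = ⊥ := (Submodule.eq_bot_iff _).2 fun v hv => by
      rw [mem_ker, LinearMap.domRestrict_apply, sub_apply', sub_eq_zero] at hv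
      exact Subtype.ext (hPi v v.2 (by rw [hv]; exact v.2))
    rw [h2, finrank_bot] at h1
    omega
  have d6 := finrank_le_two_mul_map ρ hq hdq hi hid L hLd hiL
    (fun v hv e => disjoint_ker_range ρ hq hdq ((hCmem v).2 e) hv)
  have d7 := Submodule.finrank_sup_add_finrank_inf_eq (P.map (ρ i - 1)) (L.map (ρ i - 1))
  have d8 : P.map (ρ i - 1) ⊓ L.map (ρ i - 1) = ⊥ := by
    refine eq_bot_iff.2 fun v hv => hinf.le ⟨?_, ?_⟩
    · obtain ⟨w, hw, rfl⟩ := hv.1
      exact C.sub_mem (hiC w hw.2) hw.2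
    · obtain ⟨w, hw, rfl⟩ := hv.2
      exact L.sub_mem (hiL w hw) hw
  rw [d8, finrank_bot] at d7
  have d9 : finrank (ZMod 2) ↥(P.map (ρ i - 1) ⊔ L.map (ρ i - 1)) ≤ rk ρ i :=
    Submodule.finrank_mono (sup_le LinearMap.map_le_range LinearMap.map_le_range)
  omega

/-- If no subspace carries `Z`, the part fixed by the torus is fixed by `Z`. -/
theorem ker_eq_bot_of_isolated (hZ : IsPGroup 2 Z) (hq : Odd q) (hdq : d ^ q = 1) (hi : i * i = 1)
    (hid : i * d * i⁻¹ = d⁻¹) (hgen : Subgroup.closure (insert i (Z : Set G)) = ⊤)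
    (hirrG : ∀ U : Submodule (ZMod 2) V, (∀ g, ∀ v ∈ U, ρ g v ∈ U) → U = ⊥ ∨ U = ⊤)
    (hnt : ∃ z ∈ Z, ρ z ≠ 1)
    (hT : ∀ v ∈ ker (ρ d - 1), ∀ z ∈ Z, ρ z v = v) :
    ker (ρ d - 1) = ⊥ := by
  obtain ⟨hiC, -⟩ := ker_range_invariant ρ hid hi
  obtain ⟨z₀, hz₀, hz₀1⟩ := hnt
  rcases hirrG (ker (ρ d - 1)) (fun g => by
    have hg : g ∈ Subgroup.closure (insert i (Z : Set G)) := hgen ▸ Subgroup.mem_top g
    induction hg using Subgroup.closure_induction with
    | mem g hg =>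
      intro v hv
      rcases hg with rfl | hg
      · exact hiC v hv
      · rwa [hT v hv g hg]
    | one => intro v hv; rw [map_one]; exact hv
    | mul x y _ _ hx hy => intro v hv; rw [mul_apply']; exact hx _ (hy _ hv)
    | inv x _ hx =>
      intro v hv
      have hbij : (ker (ρ d - 1)).map (ρ x) = ker (ρ d - 1) := by
        refine Submodule.eq_of_le_of_finrank_eq ?_
          (LinearEquiv.finrank_eq (Submodule.equivMapOfInjective _ (injective_apply ρ x) _)).symm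
        rintro _ ⟨w, hw, rfl⟩
        exact hx w hw
      obtain ⟨w, hw, rfl⟩ : v ∈ (ker (ρ d - 1)).map (ρ x) := hbij.symm ▸ hv
      rw [inv_apply_self]
      exact hw) with h | h
  · exact h
  · exact absurd (LinearMap.ext fun v => hT v (h ▸ Submodule.mem_top) z₀ hz₀) hz₀1

end

end CfsgLib.Bender.ModRank
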