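import Cfsg.Agent.Lib.Bender.Consumers.ModRank.Basic
import Mathlib.GroupTheory.QuotientGroup.Basic
import Mathlib.GroupTheory.OrderOfElement
import Mathlib.GroupTheory.SpecificGroups.Cyclic
import Mathlib.Algebra.Ring.GeomSum

/-!
# An elementary abelian group of odd exponent inverted by `t` has rank at most the rank of `t - 1`
-/

set_option autoImplicit false
set_option linter.unusedSectionVars false

namespace CfsgLib.Bender.ModRank

open Module LinearMap

universe u v

variable {G : Type u} [Group G]

theorem eq_one_of_quadratic {V : Type v} [AddCommGroup V] [Module (ZMod 2) V] [Module.Finite (ZMod 2) V]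
    (ρ : Representation (ZMod 2) G V) {x : G} (hx : Odd (orderOf x))
    (h : ∀ v, ρ x (ρ x v - v) = ρ x v - v) : ρ x = 1 := by
  have h2 : ρ (x * x) = 1 := LinearMap.ext fun v => by
    have := h v
    rw [map_sub, sub_eq_sub_iff_add_eq_add, add_self' (ρ x v)] at this
    rw [mul_apply', Module.End.one_apply]
    rw [← sub_eq_zero, sub_eq_add', this]
  obtain ⟨j, hj⟩ := hx
  have e : (x * x) ^ (j + 1) = x := by
    rw [← pow_two, ← pow_mul, show 2 * (j + 1) = orderOf x + 1 by omega, pow_succ, pow_orderOf_eq_one, one_mul]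
  rw [← e, map_pow, h2, one_pow]

/-- Two independent elements of odd prime order cannot both act without fixed points together with
all their products. -/
theorem lines_false {V : Type v} [AddCommGroup V] [Module (ZMod 2) V] [Module.Finite (ZMod 2) V]
    (ρ : Representation (ZMod 2) G V) {l : ℕ} (hl2 : Odd l) {a b : G} (hab : Commute a b)
    (hb : b ^ l = 1) (ha : a ^ l = 1) (hV : ∃ v : V, v ≠ 0)
    (hfix : ∀ x : G, (∃ i, i < l ∧ x = a * b ^ i) ∨ (∃ j, 0 < j ∧ j < l ∧ x = b ^ j) → ∀ v, ρ x v = v → v = 0) :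
    False := by
  set A := ρ a
  set B := ρ b
  have hsum : ∀ (x : G), x ^ l = 1 → (∀ v, ρ x v = v → v = 0) → ∑ j ∈ Finset.range l, (ρ x) ^ j = 0 := by
    intro x hx hf
    refine LinearMap.ext fun v => ?_
    refine hf _ ?_
    have h := mul_geom_sum (ρ x) l
    rw [← map_pow, hx, map_one, sub_self] at h
    have := LinearMap.congr_fun h v
    rwa [Module.End.mul_apply, LinearMap.sub_apply, Module.End.one_apply, LinearMap.zero_apply, sub_eq_zero] at this
  have h1 : ∀ i ∈ Finset.range l, ∑ j ∈ Finset.range l, A ^ j * (B ^ j) ^ i = 0 := by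
    intro i hi
    have := hsum (a * b ^ i) (by rw [(hab.pow_right i).mul_pow, ha, ← pow_mul, mul_comm, pow_mul, hb, one_pow, one_mul])
      (hfix _ (Or.inl ⟨i, Finset.mem_range.1 hi, rfl⟩))
    rw [← this]
    refine Finset.sum_congr rfl fun j _ => ?_
    rw [map_mul, map_pow, ((hab.map ρ).pow_right i).mul_pow, ← pow_mul, ← pow_mul, mul_comm j i]
  have h2 := Finset.sum_eq_zero h1
  rw [Finset.sum_comm] at h2
  have hl0 : 0 ∈ Finset.range l := Finset.mem_range.2 (by obtain ⟨j, rfl⟩ := hl2; omega)
  have hz : ∀ j ∈ Finset.range l, j ≠ 0 → ∑ i ∈ Finset.range l, A ^ j * (B ^ j) ^ i = 0 := by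
    intro j hj hj0
    have h3 := hsum (b ^ j) (by rw [← pow_mul, mul_comm, pow_mul, hb, one_pow])
      (hfix _ (Or.inr ⟨j, Nat.pos_of_ne_zero hj0, Finset.mem_range.1 hj, rfl⟩))
    rw [map_pow] at h3
    rw [← Finset.mul_sum, h3, mul_zero]
  rw [Finset.sum_eq_single_of_mem 0 hl0 hz] at h2
  simp only [pow_zero, one_pow, mul_one, Finset.sum_const, Finset.card_range] at h2
  obtain ⟨v, hv⟩ := hV
  have := LinearMap.congr_fun h2 v
  rw [LinearMap.smul_apply, Module.End.one_apply, LinearMap.zero_apply] at this
  obtain ⟨j, rfl⟩ := hl2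
  rw [add_smul, one_smul, mul_comm, mul_smul, two_smul, add_self', smul_zero, zero_add] at this
  exact hv this

/-- The kernel of a representation on a subgroup. -/
def kerOn {V : Type v} [AddCommGroup V] [Module (ZMod 2) V] (ρ : Representation (ZMod 2) G V)
    (B : Subgroup G) : Subgroup B where
  carrier := {x | ρ (x : G) = 1}
  one_mem' := map_one ρ
  mul_mem' {a b} ha hb := by
    show ρ ((a : G) * b) = 1
    rw [map_mul, show ρ (a : G) = 1 from ha, show ρ (b : G) = 1 from hb, one_mul]
  inv_mem' {a} ha := by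
    show ρ ((a : G)⁻¹) = 1
    have h : ρ ((a : G)⁻¹ * a) = 1 := by rw [inv_mul_cancel, map_one]
    rw [map_mul, show ρ (a : G) = 1 from ha, mul_one] at h
    exact h

/-- The index of the kernel is at most `l` to the rank of `t - 1`. -/
theorem index_kerOn_le {l : ℕ} (hl : l.Prime) (hl2 : Odd l) (B : Subgroup G) [Finite B]
    (hab : ∀ a ∈ B, ∀ b ∈ B, a * b = b * a) (hexp : ∀ b ∈ B, b ^ l = 1) (t : G)
    (hinv : ∀ b ∈ B, t * b * t⁻¹ = b⁻¹) (hgen : Subgroup.closure (insert t (B : Set G)) = ⊤) :
    ∀ (d : ℕ) (V : Type v) [AddCommGroup V] [Module (ZMod 2) V] [Module.Finite (ZMod 2) V]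
      (ρ : Representation (ZMod 2) G V), finrank (ZMod 2) V ≤ d → (kerOn ρ B).index ≤ l ^ rk ρ t := by
  intro d
  induction d with
  | zero =>
    intro V _ _ _ ρ hd
    haveI : Subsingleton V := Module.finrank_zero_iff.1 (Nat.le_zero.1 hd)
    have : kerOn ρ B = ⊤ := eq_top_iff.2 fun x _ => LinearMap.ext fun v => Subsingleton.elim _ _
    rw [this, Subgroup.index_top]
    exact Nat.one_le_pow _ _ hl.pos
  | succ d ih =>
    intro V _ _ _ ρ hd
    classical
    by_cases hW : ∃ b ∈ B, ρ b ≠ 1 ∧ ∃ v, v ≠ 0 ∧ ρ b v = v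
    · obtain ⟨b, hb, hb1, v, hv0, hv⟩ := hW
      set U := ker (ρ b - 1) with hU
      have hmemU : ∀ w, w ∈ U ↔ ρ b w = w := fun w => by
        rw [hU, mem_ker, LinearMap.sub_apply, Module.End.one_apply, sub_eq_zero]
      have hUinv : ∀ g, ∀ w ∈ U, ρ g w ∈ U := by
        intro g
        have hg : g ∈ Subgroup.closure (insert t (B : Set G)) := hgen ▸ Subgroup.mem_top g
        induction hg using Subgroup.closure_induction with
        | mem g hg =>
          intro w hw
          rw [hmemU] at hw ⊢
          rcases hg with rfl | hg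
          · have h1 : ρ b⁻¹ w = w := by nth_rewrite 1 [← hw]; exact inv_apply_self ρ b w
            have h3 : b * g = g * b⁻¹ := by
              have := hinv b⁻¹ (inv_mem hb)
              rw [inv_inv] at this
              nth_rewrite 1 [← this]
              rw [inv_mul_cancel_right]
            rw [← mul_apply', h3, mul_apply', h1]
          · rw [← mul_apply', hab b hb g hg, mul_apply', hw]
        | one => intro w hw; rw [map_one]; exact hw
        | mul x y _ _ hx hy => intro w hw; rw [mul_apply']; exact hx _ (hy _ hw)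
        | inv x _ hx =>
          intro w hw
          have hbij : U.map (ρ x) = U := by
            refine Submodule.eq_of_le_of_finrank_eq ?_
              (LinearEquiv.finrank_eq (Submodule.equivMapOfInjective _ (injective_apply ρ x) _)).symm
            rintro _ ⟨w', hw', rfl⟩
            exact hx w' hw'
          obtain ⟨w', hw', rfl⟩ : w ∈ U.map (ρ x) := hbij.symm ▸ hw
          rw [inv_apply_self]
          exact hw'
      have hd1 : finrank (ZMod 2) U ≤ d := by
        have : U < ⊤ := lt_top_iff_ne_top.2 fun e => hb1 (LinearMap.ext fun w =>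
          (hmemU w).1 (e ▸ Submodule.mem_top))
        have h1 := Submodule.finrank_lt this.ne
        omega
      have hd2 : finrank (ZMod 2) (V ⧸ U) ≤ d := by
        have h1 : U ≠ ⊥ := fun e => hv0 (by rw [← Submodule.mem_bot (ZMod 2), ← e, hmemU]; exact hv)
        have h2 : 0 < finrank (ZMod 2) U := Submodule.one_le_finrank_iff.2 h1
        have h3 := U.finrank_quotient_add_finrank
        omega
      have h1 := ih U (subRep ρ U hUinv) hd1
      have h2 := ih (V ⧸ U) (quotRep ρ U hUinv) hd2
      have hle : kerOn (subRep ρ U hUinv) B ⊓ kerOn (quotRep ρ U hUinv) B ≤ kerOn ρ B := by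
        rintro x ⟨hx1, hx2⟩
        refine eq_one_of_quadratic ρ ?_ fun w => ?_
        · exact hl2.of_dvd_nat (orderOf_dvd_of_pow_eq_one (hexp x x.2))
        · have h4 : ρ x w - w ∈ U := by
            have := LinearMap.congr_fun (show quotRep ρ U hUinv (x : G) = 1 from hx2) (Submodule.Quotient.mk w)
            rw [quotRep_apply, Module.End.one_apply, Submodule.Quotient.eq] at this
            exact this
          have := LinearMap.congr_fun (show subRep ρ U hUinv (x : G) = 1 from hx1) ⟨_, h4⟩
          exact congrArg Subtype.val this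
      calc (kerOn ρ B).index ≤ (kerOn (subRep ρ U hUinv) B ⊓ kerOn (quotRep ρ U hUinv) B).index :=
            Nat.le_of_dvd (Nat.pos_of_ne_zero Subgroup.FiniteIndex.index_ne_zero) (Subgroup.index_dvd_of_le hle)
        _ ≤ (kerOn (subRep ρ U hUinv) B).index * (kerOn (quotRep ρ U hUinv) B).index := Subgroup.index_inf_le
        _ ≤ l ^ rk (subRep ρ U hUinv) t * l ^ rk (quotRep ρ U hUinv) t := Nat.mul_le_mul h1 h2
        _ ≤ l ^ rk ρ t := by
          rw [← pow_add]
          exact Nat.pow_le_pow_right hl.pos (rk_add_le ρ U hUinv t)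
    · push Not at hW
      -- every element of `B` is trivial or fixed-point-free
      by_cases htriv : ∀ x ∈ B, ρ x = 1
      · rw [show kerOn ρ B = ⊤ from eq_top_iff.2 fun x _ => htriv x x.2, Subgroup.index_top]
        exact Nat.one_le_pow _ _ hl.pos
      push Not at htriv
      obtain ⟨b, hb, hb1⟩ := htriv
      have hV : ∃ v : V, v ≠ 0 := by
        by_contra h
        push Not at h
        exact hb1 (LinearMap.ext fun v => by rw [h v, map_zero, map_zero])
      have htop : Subgroup.zpowers (⟨b, hb⟩ : B) ⊔ kerOn ρ B = ⊤ := by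
        refine eq_top_iff.2 fun a _ => ?_
        by_contra ha
        refine lines_false ρ hl2 (a := (a : G)) (b := b) (hab a a.2 b hb) (hexp b hb) (hexp a a.2) hV ?_
        intro x hx v hv
        by_contra hv0
        rcases hx with ⟨i, -, rfl⟩ | ⟨j, hj0, hjl, rfl⟩
        · refine ha ?_
          have hk : a * (⟨b, hb⟩ : B) ^ i ∈ kerOn ρ B := by
            by_contra hne
            exact hv0 (hW _ (mul_mem a.2 (pow_mem hb i)) (fun e => hne e) v |> fun f => by_contra fun h0 => f h0 hv)
          rw [show a = (a * (⟨b, hb⟩ : B) ^ i) * ((⟨b, hb⟩ : B) ^ i)⁻¹ from (mul_inv_cancel_right _ _).symm]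
          exact mul_mem (Subgroup.mem_sup_right hk)
            (Subgroup.mem_sup_left (inv_mem (pow_mem (Subgroup.mem_zpowers _) i)))
        · by_cases he : ρ (b ^ j) = 1
          · refine hb1 ?_
            obtain ⟨e, he'⟩ : ∃ e : ℕ, (b ^ j) ^ e = b := by
              haveI := Fact.mk hl
              have hco : Nat.Coprime j (orderOf b) := by
                rw [orderOf_eq_prime (hexp b hb) (fun e => hb1 (by rw [e, map_one]))]
                exact ((Nat.Prime.coprime_iff_not_dvd hl).2 fun h => absurd (Nat.le_of_dvd hj0 h) (by omega)).symm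
              obtain ⟨e, he'⟩ := exists_pow_eq_self_of_coprime hco
              exact ⟨e, he'⟩
            rw [← he', map_pow, he, one_pow]
          · exact hW _ (pow_mem hb j) he v hv0 hv
      have hidx : (kerOn ρ B).index ≤ l := by
        haveI : (kerOn ρ B).Normal := ⟨fun x hx g => by
          rwa [show g * x * g⁻¹ = x by
            rw [show g * x = x * g from Subtype.ext (hab g g.2 x x.2), mul_inv_cancel_right]]⟩
        set f := QuotientGroup.mk' (kerOn ρ B)
        have hs : Subgroup.zpowers (f ⟨b, hb⟩) = ⊤ := by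
          rw [← MonoidHom.map_zpowers, eq_top_iff]
          intro q _
          obtain ⟨a, rfl⟩ := QuotientGroup.mk'_surjective _ q
          have ha : a ∈ Subgroup.zpowers (⟨b, hb⟩ : B) ⊔ kerOn ρ B := htop ▸ Subgroup.mem_top a
          have h5 := Subgroup.mem_map_of_mem f ha
          rw [Subgroup.map_sup, QuotientGroup.map_mk'_self, sup_bot_eq] at h5
          exact h5
        have h4 : Nat.card (Subgroup.zpowers (f ⟨b, hb⟩)) ≤ l := by
          rw [Nat.card_zpowers]
          refine Nat.le_of_dvd hl.pos (orderOf_dvd_of_pow_eq_one ?_)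
          rw [← map_pow, show (⟨b, hb⟩ : B) ^ l = 1 from Subtype.ext (hexp b hb), map_one]
        rwa [hs, Subgroup.card_top] at h4
      have hrk : 1 ≤ rk ρ t := rk_pos ρ fun e => hb1 (by
        have h := hinv b hb
        have h1 : ρ b = ρ b⁻¹ := by
          rw [← h, map_mul, map_mul, e, one_mul]
          rw [show ρ t⁻¹ = 1 from LinearMap.ext fun w => by
            have := inv_apply_self ρ t w
            rwa [e, Module.End.one_apply] at this, mul_one]
        refine eq_one_of_quadratic ρ (hl2.of_dvd_nat (orderOf_dvd_of_pow_eq_one (hexp b hb))) fun w => ?_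
        rw [map_sub]
        nth_rewrite 1 [h1]
        rw [inv_apply_self, sub_eq_add', sub_eq_add', add_comm])
      exact hidx.trans (le_trans (le_of_eq (pow_one l).symm) (Nat.pow_le_pow_right hl.pos hrk))

/-- A faithful elementary abelian group of odd exponent inverted by `t`. -/
theorem le_rk_of_inverted {V : Type v} [AddCommGroup V] [Module (ZMod 2) V] [Module.Finite (ZMod 2) V]
    (ρ : Representation (ZMod 2) G V) {l : ℕ} (hl : l.Prime) (hl2 : Odd l) (B : Subgroup G) [Finite B]
    (hab : ∀ a ∈ B, ∀ b ∈ B, a * b = b * a) (hexp : ∀ b ∈ B, b ^ l = 1) (t : G)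
    (hinv : ∀ b ∈ B, t * b * t⁻¹ = b⁻¹) (hker : ∀ b ∈ B, ρ b = 1 → b = 1) {n : ℕ}
    (hn : l ^ n ≤ Nat.card B) : n ≤ rk ρ t := by
  set K := Subgroup.closure (insert t (B : Set G)) with hK
  have hB : B ≤ K := fun x hx => Subgroup.subset_closure (Set.mem_insert_of_mem _ hx)
  have htK : t ∈ K := Subgroup.subset_closure (Set.mem_insert _ _)
  haveI : Finite (B.subgroupOf K) := Finite.of_equiv _ (Subgroup.subgroupOfEquivOfLe hB).symm.toEquiv
  have hgen : Subgroup.closure (insert (⟨t, htK⟩ : K) ((B.subgroupOf K : Subgroup K) : Set K)) = ⊤ := by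
    have e : insert (⟨t, htK⟩ : K) ((B.subgroupOf K : Subgroup K) : Set K) =
        K.subtype ⁻¹' insert t (B : Set G) := by
      ext x
      simp [Subgroup.mem_subgroupOf, Subtype.ext_iff]
    rw [e, hK]
    exact Subgroup.closure_closure_coe_preimage
  have h := index_kerOn_le hl hl2 (B.subgroupOf K)
    (fun a ha b hb => Subtype.ext (hab _ ha _ hb)) (fun b hb => Subtype.ext (hexp _ hb)) ⟨t, htK⟩
    (fun b hb => Subtype.ext (hinv _ hb)) hgen (finrank (ZMod 2) V) V (ρ.comp K.subtype) le_rfl
  have hbot : kerOn (ρ.comp K.subtype : Representation (ZMod 2) K V) (B.subgroupOf K) = ⊥ :=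
    (Subgroup.eq_bot_iff_forall _).2 fun x hx => Subtype.ext (Subtype.ext (hker _ x.2 hx))
  rw [hbot, Subgroup.index_bot, Nat.card_congr (Subgroup.subgroupOfEquivOfLe hB).toEquiv, rk_comp] at h
  exact (Nat.pow_le_pow_iff_right hl.one_lt).1 (hn.trans h)

end CfsgLib.Bender.ModRank
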