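import Cfsg.Agent.Lib.Bender.Consumers.ModRank.Frame
import Cfsg.Agent.Lib.Bender.Consumers.ModRank.Inverted
import Cfsg.Agent.Lib.Coprime.Hyperplanes

/-!
# Involutions moving the core: independent inverted lines
-/

set_option autoImplicit false
set_option linter.unusedSectionVars false
set_option linter.style.haveILetI false

namespace CfsgLib.Bender.ModRank

open Subgroup CfsgLib.Invol
open scoped commutatorElement
open CfsgLib.Coprime (IsSylowIn conjBy conjBy_eq_self_iff conjBy_conjBy)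

universe u v

variable {G : Type u} [Group G] [Finite G] {H Z : Subgroup G} {n : ℕ}

/-- If an involution of `Z` moves the core, an invariant Sylow subgroup of the core is moved and its
normalizer is transitive on the involutions of `Z`. -/
theorem Frame.exists_local (h : Frame H Z n) (hne : ∃ z ∈ Z, ∃ k ∈ H.normalCore, z * k * z⁻¹ ≠ k) :
    ∃ (l : ℕ) (P : Subgroup G), l.Prime ∧ Odd l ∧ IsPGroup l P ∧ Z ≤ normalizer (P : Set G) ∧
      (∃ z ∈ Z, ∃ k ∈ P, z * k * z⁻¹ ≠ k) ∧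
      ∀ s ∈ Z, ∀ t ∈ Z, s ≠ 1 → t ≠ 1 →
        ∃ d ∈ normalizer (P : Set G) ⊓ normalizer (Z : Set G), d * s * d⁻¹ = t := by
  set K := H.normalCore with hK
  have hKodd : Odd (Nat.card K) := CfsgLib.Bender.Full.odd_normalCore h.se
  have hKn : ∀ X : Subgroup G, X ≤ normalizer (K : Set G) := fun X => le_top.trans (normalizer_eq_top (H := K)).ge
  haveI : IsMulCommutative Z := ⟨⟨fun a b => Subtype.ext (h.commute a.2 b.2).eq⟩⟩
  have hsZ : Group.IsSolvable Z := CfsgLib.Coprime.isSolvable_of_isMulCommutative inferInstance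
  have hcop : (Nat.card Z).Coprime (Nat.card K) := by
    rw [h.card]; exact (Nat.coprime_two_left.2 hKodd).pow_left n
  obtain ⟨l, hl, hl2, P, hP, hPZ, hmv⟩ : ∃ l : ℕ, l.Prime ∧ Odd l ∧ ∃ P : Subgroup G, IsSylowIn l P K ∧
      Z ≤ normalizer (P : Set G) ∧ ∃ z ∈ Z, ∃ k ∈ P, z * k * z⁻¹ ≠ k := by
    by_contra hno
    obtain ⟨z, hz, k, hk, hzk⟩ := hne
    refine hzk ?_
    suffices hle : K ≤ centralizer ({z} : Set G) by
      rw [← mem_centralizer_singleton_iff.1 (hle hk), mul_inv_cancel_right]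
    refine subgroupOf_eq_top.1 (eq_top_of_card_eq _ (Nat.dvd_antisymm (card_subgroup_dvd_card _) ?_))
    refine (Nat.dvd_iff_prime_pow_dvd_dvd _ _).2 fun q j hq hd => ?_
    rcases Nat.eq_zero_or_pos j with rfl | hj
    · simp
    haveI := Fact.mk hq
    have hq2 : Odd q := hKodd.of_dvd_nat ((dvd_pow_self q hj.ne').trans hd)
    obtain ⟨P, hP, hPZ⟩ := CfsgLib.Coprime.exists_invariant_sylow (hKn Z) hcop (Or.inl hsZ) q
    have hle : P.subgroupOf K ≤ (centralizer ({z} : Set G)).subgroupOf K := comap_mono fun p hp => by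
      by_contra hne
      refine hno ⟨q, hq, hq2, P, hP, hPZ, z, hz, p, hp, fun e => hne (mem_centralizer_singleton_iff.2 ?_)⟩
      nth_rewrite 1 [← e]
      rw [inv_mul_cancel_right]
    refine dvd_trans ?_ (card_dvd_of_le hle)
    rw [Nat.card_congr (subgroupOfEquivOfLe hP.1).toEquiv, hP.2]
    exact pow_dvd_pow q ((hq.pow_dvd_iff_le_factorization Nat.card_pos.ne').1 hd)
  haveI := Fact.mk hl
  refine ⟨l, P, hl, hl2, hP.isPGroup, hPZ, hmv, fun s hs t ht hs1 ht1 => ?_⟩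
  obtain ⟨d, hd⟩ := isConj_iff.1 (exists_conj_fixing h.se (h.invol hs hs1) (h.invol ht ht1))
  have hdH : d ∈ H := mem_of_conj_mem h.se (h.le hs) (h.invol hs hs1) (hd ▸ h.le ht)
  -- bring `d Z d⁻¹` back to `Z` by an element of the core
  set L := K ⊔ Z with hL
  have hsub : conjBy d Z ≤ L := by
    intro x hx
    rw [CfsgLib.Coprime.mem_conjBy] at hx
    by_cases hx1 : x = 1
    · rw [hx1]; exact one_mem _
    have hxo : orderOf x = 2 := by
      have h0 : orderOf (d⁻¹ * x * d) = 2 := h.invol hx fun e => hx1 (by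
        rw [show x = d * (d⁻¹ * x * d) * d⁻¹ by group, e]; group)
      have := invol_conj h0 d
      rwa [show d * (d⁻¹ * x * d) * d⁻¹ = x by group] at this
    have hxH : x ∈ H := by
      rw [show x = d * (d⁻¹ * x * d) * d⁻¹ by group]
      exact H.mul_mem (H.mul_mem hdH (h.le hx)) (H.inv_mem hdH)
    obtain ⟨m, hm, hmx⟩ := h.exists_conj_mem hxH hxo
    rw [show x = m * (m⁻¹ * x * m) * m⁻¹ by group]
    exact mul_mem (mul_mem (mem_sup_left hm) (mem_sup_right hmx)) (inv_mem (mem_sup_left hm))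
  have hcard : Nat.card L ∣ Nat.card K * Nat.card Z := by
    rw [hL, sup_comm]
    have h1 : (K.subgroupOf (Z ⊔ K)).Normal := inferInstance
    have h2 := Subgroup.index_mul_card (K.subgroupOf (Z ⊔ K))
    rw [← relIndex, relIndex_sup_right, Nat.card_congr (subgroupOfEquivOfLe (le_sup_right (a := Z))).toEquiv] at h2
    rw [← h2, mul_comm (Nat.card K)]
    exact mul_dvd_mul_right ((relIndex_dvd_card K Z).trans dvd_rfl) _
  have hsyl : ∀ Y : Subgroup G, Y ≤ L → Nat.card Y = 2 ^ n → IsSylowIn 2 Y L := by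
    intro Y hY hYc
    haveI : Fact (Nat.Prime 2) := ⟨Nat.prime_two⟩
    refine ⟨hY, by
      rw [hYc]
      refine Nat.pow_right_injective le_rfl |>.eq_iff.2 (le_antisymm ?_ ?_)
      · exact (Nat.prime_two.pow_dvd_iff_le_factorization Nat.card_pos.ne').1 (hYc ▸ card_dvd_of_le hY)
      · have h1 := (Nat.ordProj_dvd (Nat.card L) 2).trans hcard
        rw [h.card] at h1
        have h2 := ((Nat.coprime_two_left.2 hKodd).pow_left ((Nat.card L).factorization 2)).dvd_of_dvd_mul_left h1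
        exact (Nat.pow_dvd_pow_iff_le_right one_lt_two).1 h2⟩
  haveI : Fact (Nat.Prime 2) := ⟨Nat.prime_two⟩
  obtain ⟨k, hk, hkZ⟩ := (hsyl _ hsub (by rw [CfsgLib.Coprime.card_conjBy, h.card])).exists_conj
    (hsyl Z le_sup_right h.card)
  obtain ⟨m, hm, y, hy, rfl⟩ := CfsgLib.Coprime.mem_sup_exists (hKn Z) hk
  -- `y⁻¹ m y` also works and lies in the core
  set m' := y⁻¹ * m * y with hm'
  have hm'K : m' ∈ K := by
    have := (inferInstance : K.Normal).conj_mem m hm y⁻¹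
    rwa [inv_inv] at this
  have hm'Z : conjBy (m' * d) Z = Z := by
    have e : m' * d = y⁻¹ * (m * y * d) := by rw [hm']; group
    rw [e, ← conjBy_conjBy, ← conjBy_conjBy, hkZ]
    exact conjBy_eq_self_iff.2 (le_normalizer (Z.inv_mem hy))
  have hmd : m' * d * s * (m' * d)⁻¹ = t := by
    have h1 : m' * d * s * (m' * d)⁻¹ ∈ Z := by
      have := CfsgLib.Coprime.conj_mem_conjBy (g := m' * d) hs
      rwa [hm'Z] at this
    have h2 : m' * d * s * (m' * d)⁻¹ * t⁻¹ ∈ K := by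
      rw [show m' * d * s * (m' * d)⁻¹ * t⁻¹ = m' * (t * m'⁻¹ * t⁻¹) by rw [← hd]; group]
      exact K.mul_mem hm'K ((inferInstance : K.Normal).conj_mem _ (K.inv_mem hm'K) t)
    have h3 := orderOf_dvd_natCard Z (Z.mul_mem h1 (Z.inv_mem ht))
    rw [h.card] at h3
    have h4 := orderOf_dvd_natCard K h2
    exact mul_inv_eq_one.1 (orderOf_eq_one_iff.1 (Nat.eq_one_of_dvd_coprimes
      ((Nat.coprime_two_left.2 hKodd).pow_left n) h3 h4))
  set d1 := m' * d with hd1
  have hd1N : d1 ∈ normalizer (Z : Set G) := conjBy_eq_self_iff.1 hm'Z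
  have hQ : IsSylowIn l (conjBy d1 P) K := hP.conjBy (hKn ⊤ (mem_top _))
  have hQZ : Z ≤ normalizer ((conjBy d1 P : Subgroup G) : Set G) := fun z hz => by
    refine conjBy_eq_self_iff.1 ?_
    have h1 : d1⁻¹ * z * d1 ∈ Z := by
      have := (mem_normalizer_iff.1 (inv_mem hd1N) z).1 hz
      rwa [inv_inv] at this
    rw [conjBy_conjBy, show z * d1 = d1 * (d1⁻¹ * z * d1) by group, ← conjBy_conjBy,
      conjBy_eq_self_iff.2 (hPZ h1)]
  obtain ⟨c, hc, hcP⟩ := CfsgLib.Coprime.invariant_sylow_conj (hKn Z) hcop (Or.inl hsZ) hQ hP hQZ hPZ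
  refine ⟨c * d1, ⟨conjBy_eq_self_iff.1 (by rw [← conjBy_conjBy, hcP]),
    mul_mem (centralizer_le_normalizer _ hc.2) hd1N⟩, ?_⟩
  rw [show c * d1 * s * (c * d1)⁻¹ = c * (d1 * s * d1⁻¹) * c⁻¹ by group, hmd,
    ← mem_centralizer_iff.1 hc.2 t ht, mul_inv_cancel_right]

/-- If an involution of `Z` moves the core, some involution has rank at least `n`. -/
theorem Frame.le_rk_of_moves_core (h : Frame H Z n) {V : Type v} [AddCommGroup V] [Module (ZMod 2) V]
    [Module.Finite (ZMod 2) V] (ρ : Representation (ZMod 2) G V) (hρ : Function.Injective ρ)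
    (hne : ∃ z ∈ Z, ∃ k ∈ H.normalCore, z * k * z⁻¹ ≠ k) : ∃ s, orderOf s = 2 ∧ n ≤ rk ρ s := by
  classical
  obtain ⟨l, P, hl, hl2, hP, hPZ, hmv, htr⟩ := h.exists_local hne
  haveI := Fact.mk hl
  set A := normalizer (P : Set G) ⊓ normalizer (Z : Set G) with hA
  have hZA : Z ≤ A := le_inf hPZ le_normalizer
  obtain ⟨P₀, hP₀P, hmin⟩ := exists_minimal_le_of_wellFoundedLT
    (fun U : Subgroup G => A ≤ normalizer (U : Set G) ∧ ∃ z ∈ Z, ∃ k ∈ U, z * k * z⁻¹ ≠ k) P
    ⟨inf_le_left, hmv⟩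
  obtain ⟨hP₀A, z₁, hz₁, k₁, hk₁, hmv₀⟩ := hmin.prop
  have hP₀ : IsPGroup l P₀ := hP.to_le hP₀P
  -- the derived subgroup is centralized by `Z`
  have hder : ∀ z ∈ Z, ∀ c ∈ ⁅P₀, P₀⁆, z * c * z⁻¹ = c := by
    intro z hz c hc
    by_contra hne'
    have hlt : ⁅P₀, P₀⁆ < P₀ := by
      haveI : Group.IsNilpotent P₀ := hP₀.isNilpotent
      refine lt_of_le_of_ne (commutator_le_self P₀) fun e => hmv₀ ?_
      haveI : Nontrivial P₀ := (nontrivial_iff_exists_ne_one P₀).2 ⟨k₁, hk₁, fun e1 => hmv₀ (by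
        rw [e1, mul_one, mul_inv_cancel])⟩
      exfalso
      have h1 := Group.IsSolvable.commutator_lt_top_of_nontrivial (G := P₀)
      refine h1.ne (map_injective P₀.subtype_injective ?_)
      rw [commutator_def, map_commutator, ← MonoidHom.range_eq_map, range_subtype, e]
    refine hlt.not_ge (hmin.le_of_le ⟨fun a ha => ?_, z, hz, c, hc, hne'⟩ hlt.le)
    refine conjBy_eq_self_iff.1 ?_
    show (⁅P₀, P₀⁆).map _ = _
    rw [map_commutator]
    exact congr_arg₂ _ (conjBy_eq_self_iff.2 (hP₀A ha)) (conjBy_eq_self_iff.2 (hP₀A ha))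
  let X : Set G := {a | a ∈ P₀ ∧ a ^ l = 1 ∧ (∀ z ∈ Z, z * a * z⁻¹ = a ∨ z * a * z⁻¹ = a⁻¹) ∧
    ∃ z ∈ Z, z * a * z⁻¹ ≠ a}
  -- an element inverted modulo a hyperplane
  have hX : ∃ a, a ∈ X := by
    haveI : Fact (Nat.Prime 2) := ⟨Nat.prime_two⟩
    obtain ⟨E, hEZ, hEi, x, hxE, hxZ⟩ : ∃ E : Subgroup G, E ≤ Z ∧ E.relIndex Z = 2 ∧ ∃ x,
        x ∈ P₀ ⊓ centralizer (E : Set G) ∧ x ∉ centralizer (Z : Set G) := by
      by_contra hno
      have h1 : P₀ ≤ centralizer (Z : Set G) := by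
        refine CfsgLib.Coprime.le_of_hyperplanes (p := 2)
          ⟨⟨⟨fun a b => Subtype.ext (h.commute a.2 b.2).eq⟩⟩, fun z hz => by rw [pow_two]; exact h.sq z hz⟩
          (by rw [h.card]; exact Nat.pow_le_pow_right two_pos h.two_le) ?_ (hZA.trans hP₀A)
          fun E hE hEi x hx => by_contra fun hxZ => hno ⟨E, hE, hEi, x, hx, hxZ⟩
        intro hd
        obtain ⟨j, hj⟩ := IsPGroup.iff_card.1 hP₀
        rw [hj] at hd
        have := (Nat.prime_dvd_prime_iff_eq Nat.prime_two hl).1 (Nat.prime_two.dvd_of_dvd_pow hd)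
        rw [← this] at hl2; exact absurd hl2 (by decide)
      refine hmv₀ ?_
      rw [mem_centralizer_iff.1 (h1 hk₁) z₁ hz₁, mul_inv_cancel_right]
    rw [mem_centralizer_iff] at hxZ
    push Not at hxZ
    obtain ⟨z, hz, hzx⟩ := hxZ
    have hfixE : ∀ e ∈ E, e * x * e⁻¹ = x := fun e he => by
      rw [mem_centralizer_iff.1 hxE.2 e he, mul_inv_cancel_right]
    set a₀ := x⁻¹ * (z * x * z⁻¹) with ha₀
    have ha₀P : a₀ ∈ P₀ := P₀.mul_mem (P₀.inv_mem hxE.1)
      ((mem_normalizer_iff.1 (hP₀A (hZA hz)) x).1 hxE.1)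
    have hzi : z⁻¹ = z := inv_eq_of_mul_eq_one_right (h.sq z hz)
    have ha₀z : z * a₀ * z⁻¹ = a₀⁻¹ := by
      rw [ha₀]
      calc z * (x⁻¹ * (z * x * z⁻¹)) * z⁻¹ = z * x⁻¹ * z * x * (z⁻¹ * z⁻¹) := by group
        _ = z * x⁻¹ * z⁻¹ * x := by rw [← mul_inv_rev, h.sq z hz, inv_one, mul_one, hzi]
        _ = _ := by group
    have ha₀E : ∀ e ∈ E, e * a₀ * e⁻¹ = a₀ := fun e he => by
      have h1 := hfixE e he
      have h2 : e * (z * x * z⁻¹) * e⁻¹ = z * x * z⁻¹ := by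
        calc e * (z * x * z⁻¹) * e⁻¹ = (e * z) * x * (e * z)⁻¹ := by group
          _ = z * (e * x * e⁻¹) * z⁻¹ := by rw [(h.commute (hEZ he) hz).eq]; group
          _ = _ := by rw [h1]
      rw [ha₀]
      calc e * (x⁻¹ * (z * x * z⁻¹)) * e⁻¹ = (e * x * e⁻¹)⁻¹ * (e * (z * x * z⁻¹) * e⁻¹) := by group
        _ = _ := by rw [h1, h2]
    have ha₀1 : a₀ ≠ 1 := fun e => hzx (by
      have h3 : z * x * z⁻¹ = x := (inv_mul_eq_one.1 e).symm
      nth_rewrite 2 [← h3]
      rw [inv_mul_cancel_right])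
    -- bring it to order `l`
    obtain ⟨j, hj, hmax⟩ : ∃ j, a₀ ^ l ^ j ≠ 1 ∧ a₀ ^ l ^ (j + 1) = 1 := by
      obtain ⟨J, hJ⟩ := hP₀ ⟨a₀, ha₀P⟩
      have hJ' : a₀ ^ l ^ J = 1 := congrArg Subtype.val hJ
      clear hJ
      induction J with
      | zero => rw [pow_zero, pow_one] at hJ'; exact absurd hJ' ha₀1
      | succ J ih =>
        by_cases h1 : a₀ ^ l ^ J = 1
        · exact ih h1
        · exact ⟨J, h1, hJ'⟩
    refine ⟨a₀ ^ l ^ j, P₀.pow_mem ha₀P _, by rw [← pow_mul, ← pow_succ, hmax], fun w hw => ?_, z, hz, ?_⟩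
    · rw [← conj_pow]
      by_cases hwE : w ∈ E
      · left; rw [ha₀E w hwE]
      · right
        have hidx : (E.subgroupOf Z).index = 2 := hEi
        have h1 := Subgroup.mul_mem_iff_of_index_two hidx (a := ⟨w, hw⟩) (b := ⟨z, hz⟩)
        have hzE : z ∉ E := fun hzE => hzx (by
          have h3 := hfixE z hzE
          nth_rewrite 2 [← h3]
          rw [inv_mul_cancel_right])
        have hwz : w * z ∈ E := h1.2 ⟨fun hh => absurd hh hwE, fun hh => absurd hh hzE⟩
        rw [← inv_pow]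
        congr 1
        rw [show w = (w * z) * z⁻¹ by group, hzi, show (w * z * z) * a₀ * (w * z * z)⁻¹ =
          (w * z) * (z * a₀ * z⁻¹) * (w * z)⁻¹ by group, ha₀z, ← conj_inv, ha₀E _ hwz]
    · rw [← conj_pow, ha₀z, inv_pow]
      intro e
      refine hj ?_
      have h2 : (a₀ ^ l ^ j) ^ 2 = 1 := by rw [pow_two]; nth_rewrite 1 [← e]; rw [inv_mul_cancel]
      obtain ⟨c, hc⟩ := hl2
      have h4 : (a₀ ^ l ^ j) ^ l = 1 := by rw [← pow_mul, ← pow_succ, hmax]
      have h5 : (a₀ ^ l ^ j) ^ (2 * c + 1) = 1 := by rw [← hc]; exact h4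
      rw [pow_succ, pow_mul, h2, one_pow, one_mul] at h5
      exact h5
  have hne1 : ∀ a ∈ X, a ≠ a⁻¹ := fun a ha e => by
    obtain ⟨z, -, hza⟩ := ha.2.2.2
    refine hza ?_
    have h2 : a ^ 2 = 1 := by rw [pow_two]; nth_rewrite 2 [e]; rw [mul_inv_cancel]
    have h1 : a = 1 := by
      have := pow_gcd_eq_one.2 ⟨h2, ha.2.1⟩
      rwa [(Nat.coprime_two_left.2 hl2).gcd_eq_one, pow_one] at this
    rw [h1, mul_one, mul_inv_cancel]
  have hprod : ∀ a ∈ X, ∀ y ∈ Z, ∀ w ∈ Z,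
      ((y * w) * a * (y * w)⁻¹ = a ↔ (y * a * y⁻¹ = a ↔ w * a * w⁻¹ = a)) := by
    intro a ha y hy w hw
    rw [show (y * w) * a * (y * w)⁻¹ = y * (w * a * w⁻¹) * y⁻¹ by group]
    have hne' := hne1 a ha
    rcases ha.2.2.1 w hw with e | e <;> rcases ha.2.2.1 y hy with e' | e' <;>
      simp only [e, e', ← conj_inv, inv_inv, hne', hne'.symm, iff_false, iff_true, eq_self_iff_true,
        not_false_eq_true, not_true_eq_false, iff_self]
  -- every involution of `Z` moves some element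
  have hmoves : ∀ y ∈ Z, y ≠ 1 → ∃ a ∈ X, y * a * y⁻¹ ≠ a := by
    intro y hy hy1
    obtain ⟨a, ha⟩ := hX
    obtain ⟨z, hz, hza⟩ := ha.2.2.2
    have hz1 : z ≠ 1 := fun e => hza (by rw [e]; group)
    obtain ⟨d, hd, hdy⟩ := htr z hz y hy hz1 hy1
    have hconj : ∀ w ∈ Z, d⁻¹ * w * d ∈ Z := fun w hw => by
      have := (mem_normalizer_iff.1 (inv_mem hd.2) w).1 hw
      rwa [inv_inv] at this
    refine ⟨d * a * d⁻¹, ⟨(mem_normalizer_iff.1 (hP₀A hd) a).1 ha.1, by rw [conj_pow, ha.2.1]; group,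
      fun w hw => ?_, y, hy, ?_⟩, ?_⟩
    · rcases ha.2.2.1 _ (hconj w hw) with e | e
      · left
        calc w * (d * a * d⁻¹) * w⁻¹ = d * ((d⁻¹ * w * d) * a * (d⁻¹ * w * d)⁻¹) * d⁻¹ := by group
          _ = _ := by rw [e]
      · right
        calc w * (d * a * d⁻¹) * w⁻¹ = d * ((d⁻¹ * w * d) * a * (d⁻¹ * w * d)⁻¹) * d⁻¹ := by group
          _ = _ := by rw [e]; group
    all_goals
      rw [← hdy]
      intro e
      refine hza ?_
      calc z * a * z⁻¹ = d⁻¹ * ((d * z * d⁻¹) * (d * a * d⁻¹) * (d * z * d⁻¹)⁻¹) * d := by group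
        _ = a := by rw [e]; group
  have key : ∀ j : ℕ, ∀ Y : Subgroup G, Y ≤ Z → Nat.card Y = 2 ^ j → ∃ T : Finset G, ↑T ⊆ X ∧
      T.card = j ∧ ∀ f : G → Prop, ∃ y ∈ Y, ∀ a ∈ T, (y * a * y⁻¹ = a ↔ f a) := by
    intro j
    induction j with
    | zero => intro Y _ _; exact ⟨∅, by simp, rfl, fun f => ⟨1, Y.one_mem, by simp⟩⟩
    | succ j ih =>
      intro Y hYZ hY
      haveI : Nontrivial Y := Finite.one_lt_card_iff_nontrivial.1 (by rw [hY]; exact Nat.one_lt_pow (by omega) one_lt_two)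
      obtain ⟨y₁, hy₁, hy₁1⟩ := (nontrivial_iff_exists_ne_one Y).1 inferInstance
      obtain ⟨a₀, ha₀, hy₁a⟩ := hmoves y₁ (hYZ hy₁) hy₁1
      set Y' := Y ⊓ centralizer ({a₀} : Set G) with hY'
      have hYmem : ∀ y ∈ Y, y ∈ Y' ↔ y * a₀ * y⁻¹ = a₀ := fun y hy => by
        rw [hY', mem_inf, mem_centralizer_singleton_iff, mul_inv_eq_iff_eq_mul]
        exact ⟨fun hh => hh.2, fun hh => ⟨hy, hh⟩⟩
      have hidx : (Y'.subgroupOf Y).index = 2 := by
        refine Subgroup.index_eq_two_iff.2 ⟨⟨y₁, hy₁⟩, fun b => ?_⟩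
        simp only [mem_subgroupOf, coe_mul]
        rw [hYmem _ (Y.mul_mem b.2 hy₁), hYmem _ b.2, hprod a₀ ha₀ _ (hYZ b.2) _ (hYZ hy₁)]
        by_cases hb : (b : G) * a₀ * (b : G)⁻¹ = a₀
        · exact Or.inr ⟨hb, fun hh => hy₁a (hh.1 hb)⟩
        · exact Or.inl ⟨iff_of_false hb hy₁a, hb⟩
      have hc := Subgroup.card_mul_index (Y'.subgroupOf Y)
      rw [hidx, hY, Nat.card_congr (subgroupOfEquivOfLe (inf_le_left : Y' ≤ Y)).toEquiv, pow_succ] at hc
      obtain ⟨T, hTX, hTc, hT⟩ := ih Y' (inf_le_left.trans hYZ) (by rw [hY']; omega)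
      have ha₀T : a₀ ∉ T := by
        intro hmem
        obtain ⟨w, hw, hw'⟩ := hT fun _ => False
        exact (hw' a₀ hmem).1 ((hYmem w hw.1).1 hw)
      refine ⟨insert a₀ T, by rw [Finset.coe_insert]; exact Set.insert_subset ha₀ hTX,
        by rw [Finset.card_insert_of_notMem ha₀T, hTc], fun f => ?_⟩
      set y₀ := if f a₀ then 1 else y₁ with hy₀
      have hy₀Y : y₀ ∈ Y := by rw [hy₀]; split_ifs <;> [exact Y.one_mem; exact hy₁]
      have hy₀a : y₀ * a₀ * y₀⁻¹ = a₀ ↔ f a₀ := by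
        rw [hy₀]; split_ifs with hf
        · simpa using hf
        · exact iff_of_false hy₁a hf
      obtain ⟨w, hw, hwT⟩ := hT fun a => (y₀ * a * y₀⁻¹ = a ↔ f a)
      refine ⟨y₀ * w, Y.mul_mem hy₀Y hw.1, fun a ha => ?_⟩
      rcases Finset.mem_insert.1 ha with rfl | ha
      · rw [hprod a ha₀ _ (hYZ hy₀Y) _ (hYZ hw.1), hy₀a]
        simp [(hYmem w hw.1).1 hw]
      · rw [hprod a (hTX ha) _ (hYZ hy₀Y) _ (hYZ hw.1), hwT a ha]
        tauto
  obtain ⟨T, hTX, hTc, hT⟩ := key n Z le_rfl h.card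
  -- the chosen elements commute
  have hTcomm : ∀ a ∈ T, ∀ b ∈ T, a * b = b * a := by
    intro a ha b hb
    by_cases hab : a = b
    · rw [hab]
    obtain ⟨s, hs, hsT⟩ := hT fun x => x = a
    have hsa : s * a * s⁻¹ = a := (hsT a ha).2 rfl
    have hsb : s * b * s⁻¹ = b⁻¹ := ((hTX hb).2.2.1 s hs).resolve_left fun e => hab ((hsT b hb).1 e).symm
    have hc := hder s hs ⁅a, b⁆ (commutator_mem_commutator (hTX ha).1 (hTX hb).1)
    rw [commutatorElement_def, show s * (a * b * a⁻¹ * b⁻¹) * s⁻¹ =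
      (s * a * s⁻¹) * (s * b * s⁻¹) * (s * a * s⁻¹)⁻¹ * (s * b * s⁻¹)⁻¹ by group, hsa, hsb, inv_inv] at hc
    have h1 : b ^ 2 * a⁻¹ = a⁻¹ * b ^ 2 := by
      rw [pow_two]
      calc b * b * a⁻¹ = b * a⁻¹ * (a * b * a⁻¹ * b⁻¹) * b := by group
        _ = b * a⁻¹ * (a * b⁻¹ * a⁻¹ * b) * b := by rw [hc]
        _ = _ := by group
    obtain ⟨c, hc'⟩ := hl2
    have h2 : Commute ((b ^ 2) ^ (c + 1)) a⁻¹ := (show Commute (b ^ 2) a⁻¹ from h1).pow_left _
    rw [← pow_mul, show 2 * (c + 1) = l + 1 by omega, pow_succ, (hTX hb).2.1, one_mul] at h2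
    exact (Commute.inv_right_iff.1 h2).symm.eq
  have hcl : ∀ U : Finset G, U ⊆ T → (∀ x ∈ closure (U : Set G), ∀ y ∈ closure (U : Set G), x * y = y * x) ∧
      ∀ x ∈ closure (U : Set G), x ^ l = 1 := by
    intro U hU
    have h1 : ∀ x ∈ closure (U : Set G), ∀ y ∈ closure (U : Set G), x * y = y * x := by
      have h2 : closure (U : Set G) ≤ centralizer (closure (U : Set G) : Set G) := by
        rw [centralizer_closure]
        exact (closure_le _).2 fun x hx => mem_centralizer_iff.2 fun y hy => hTcomm y (hU hy) x (hU hx)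
      exact fun x hx y hy => (mem_centralizer_iff.1 (h2 hx) y hy).symm
    refine ⟨h1, fun x hx => ?_⟩
    induction hx using closure_induction with
    | mem x hx => exact (hTX (hU hx)).2.1
    | one => exact one_pow l
    | mul x y hx hy e1 e2 => rw [(show Commute x y from h1 x hx y hy).mul_pow, e1, e2, one_mul]
    | inv x _ e1 => rw [inv_pow, e1, inv_one]
  have hsize : ∀ U : Finset G, U ⊆ T → l ^ U.card ≤ Nat.card (closure (U : Set G)) := by
    intro U
    induction U using Finset.induction with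
    | empty => intro _; simp
    | @insert a U haU ih =>
      intro hU
      have hU' : U ⊆ T := (Finset.subset_insert a U).trans hU
      obtain ⟨s, hs, hsT⟩ := hT fun x => x ≠ a
      have hlt : closure (U : Set G) < closure ((insert a U : Finset G) : Set G) := by
        refine lt_of_le_of_ne (closure_mono (by simp)) fun e => ?_
        have hle : closure (U : Set G) ≤ centralizer ({s} : Set G) := (closure_le _).2 fun x hx => by
          refine mem_centralizer_singleton_iff.2 ?_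
          nth_rewrite 1 [← (hsT x (hU' hx)).2 fun e1 => haU (e1 ▸ hx)]
          rw [inv_mul_cancel_right]
        have hm : a ∈ centralizer ({s} : Set G) := hle (e ▸ subset_closure (by simp))
        exact (hsT a (hU (Finset.mem_insert_self a U))).1
          (by rw [← mem_centralizer_singleton_iff.1 hm, mul_inv_cancel_right]) rfl
      have hp : ∀ U : Finset G, U ⊆ T → IsPGroup l (closure (U : Set G)) := fun U hU x =>
        ⟨1, Subtype.ext (by rw [pow_one, SubgroupClass.coe_pow]; exact (hcl U hU).2 _ x.2)⟩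
      obtain ⟨e₁, he₁⟩ := IsPGroup.iff_card.1 (hp U hU')
      obtain ⟨e₂, he₂⟩ := IsPGroup.iff_card.1 (hp _ hU)
      have hne' : Nat.card (closure (U : Set G)) < Nat.card (closure ((insert a U : Finset G) : Set G)) := by
        refine lt_of_not_ge fun hge => hlt.ne (eq_of_le_of_card_ge hlt.le hge)
      rw [he₁, he₂, Nat.pow_lt_pow_iff_right hl.one_lt] at hne'
      have h1 := ih hU'
      rw [he₁, Nat.pow_le_pow_iff_right hl.one_lt] at h1
      rw [he₂, Finset.card_insert_of_notMem haU]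
      exact Nat.pow_le_pow_right hl.pos (by omega)
  obtain ⟨s, hs, hsT⟩ := hT fun _ => False
  have hs1 : s ≠ 1 := by
    rintro rfl
    obtain ⟨a, ha⟩ : T.Nonempty := Finset.card_pos.1 (by rw [hTc]; have := h.two_le; omega)
    exact (hsT a ha).1 (by group)
  obtain ⟨hab, hexp⟩ := hcl T subset_rfl
  refine ⟨s, h.invol hs hs1, le_rk_of_inverted ρ hl hl2 (closure (T : Set G)) hab hexp s ?_ ?_ ?_⟩
  · intro b hb
    induction hb using closure_induction with
    | mem x hx => exact ((hTX hx).2.2.1 s hs).resolve_left fun e => (hsT x hx).1 e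
    | one => group
    | mul x y hx hy e1 e2 =>
      rw [show s * (x * y) * s⁻¹ = (s * x * s⁻¹) * (s * y * s⁻¹) by group, e1, e2, ← mul_inv_rev, hab x hx y hy]
    | inv x _ e1 => rw [← conj_inv, e1]
  · intro b _ e
    exact hρ (e.trans (map_one ρ).symm)
  · rw [← hTc]; exact hsize T subset_rfl

end CfsgLib.Bender.ModRank
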