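import Cfsg.Agent.Lib.Bender.Consumers.ModRank.Central

/-!
# Two-point stabilizers when `Z` has order 64: commuting inverted elements of orders seven and three
-/

set_option autoImplicit false
set_option linter.unusedSectionVars false
set_option linter.style.haveILetI false

namespace CfsgLib.Bender.ModRank

open Subgroup CfsgLib.Invol

universe u

variable {G : Type u} [Group G] [Finite G] {H Z : Subgroup G} {n : ℕ}

/-- Counting the fixed points of an element of prime order. -/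
theorem card_modEq_centralized {l : ℕ} [Fact l.Prime] {x : G} (hx : x ^ l = 1) (Y : Subgroup G)
    (hY : ∀ y ∈ Y, x * y * x⁻¹ ∈ Y) :
    Nat.card Y ≡ Nat.card ↥(Y ⊓ centralizer ({x} : Set G)) [MOD l] := by
  set C := zpowers x with hC
  have hxN : x ∈ normalizer (Y : Set G) := by
    refine CfsgLib.Coprime.conjBy_eq_self_iff.1 (eq_of_le_of_card_ge ?_ (CfsgLib.Coprime.card_conjBy x Y).ge)
    rintro _ ⟨y, hy, rfl⟩
    exact hY y hy
  letI : MulAction C Y :=
    { smul := fun g y => ⟨(g : G) * (y : G) * (g : G)⁻¹, (mem_normalizer_iff.1 (zpowers_le.2 hxN g.2) y).1 y.2⟩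
      one_smul := fun y => Subtype.ext (by show ((1 : C) : G) * _ * _ = _; simp)
      mul_smul := fun a b y => Subtype.ext (by
        show ((a * b : C) : G) * _ * _ = (a : G) * ((b : G) * _ * _) * _
        rw [Subgroup.coe_mul]; group) }
  have hp : IsPGroup l C := fun g => ⟨1, Subtype.ext (by
    obtain ⟨e, he⟩ := mem_zpowers_iff.1 g.2
    rw [pow_one, SubgroupClass.coe_pow, ← he, OneMemClass.coe_one, ← zpow_natCast, ← zpow_mul, mul_comm, zpow_mul,
      zpow_natCast, hx, one_zpow])⟩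
  have hfix : Nat.card (MulAction.fixedPoints C Y) = Nat.card ↥(Y ⊓ centralizer ({x} : Set G)) := by
    refine Nat.card_congr ⟨fun z => ⟨z.1, z.1.2, mem_centralizer_singleton_iff.2 ?_⟩,
      fun z => ⟨⟨z.1, z.2.1⟩, fun g => Subtype.ext ?_⟩, fun z => rfl, fun z => rfl⟩
    · exact (mul_inv_eq_iff_eq_mul.1 (congrArg Subtype.val (z.2 ⟨x, mem_zpowers x⟩))).symm
    · obtain ⟨e, he⟩ := mem_zpowers_iff.1 g.2
      show (g : G) * (z : G) * (g : G)⁻¹ = z
      rw [← he, ((show Commute x (z : G) from (mem_centralizer_singleton_iff.1 z.2.2).symm).zpow_left e).eq,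
        mul_inv_cancel_right]
  rw [← hfix]
  exact hp.card_modEq_card_fixedPoints Y

namespace Frame

variable (h : Frame H Z 6) (hcore : H.normalCore = ⊥) {i : G} (hi : orderOf i = 2) (hiH : i ∉ H)
  (hfaith : ∀ c ∈ twoStab H i, (∀ z ∈ Z, Commute c z) → c = 1)
include h hcore hi hiH hfaith

theorem exists_pair_six : ∃ a b : G, a ∈ twoStab H i ∧ b ∈ twoStab H i ∧ a ^ 7 = 1 ∧ b ^ 3 = 1 ∧
    i * a * i⁻¹ = a⁻¹ ∧ i * b * i⁻¹ = b⁻¹ ∧ Commute a b ∧ (∀ z ∈ Z, Commute a z → z = 1) ∧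
    ∀ z ∈ Z, Commute b z → z = 1 := by
  classical
  have hN : ∀ m ∈ H.normalCore, ∀ x : G, Commute m x := by
    intro m hm x; rw [hcore, mem_bot] at hm; rw [hm]; exact Commute.one_left x
  set D := twoStab H i with hD
  have hDodd : Odd (Nat.card D) := h.odd_twoStab hN hi hiH
  have hDZ : ∀ d ∈ D, ∀ z ∈ Z, d * z * d⁻¹ ∈ Z := fun d hd z hz => h.conj_mem hN (mem_twoStab.1 hd).1 hz
  have h63 : 63 ∣ Nat.card D := by
    have h1 := h.dvd_index hN hi hiH
    exact dvd_trans h1 (index_dvd_card _)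
  have hiD : ∀ c ∈ D, i * c * i⁻¹ ∈ D := fun c hc => h.normalizes_twoStab hN hi hiH hc
  have hii : i * i = 1 := invol_mul_self hi
  have hinvd : ∀ c : G, i * (i * c * i⁻¹ * c⁻¹) * i⁻¹ = (i * c * i⁻¹ * c⁻¹)⁻¹ := by
    intro c
    rw [show i * (i * c * i⁻¹ * c⁻¹) * i⁻¹ = (i * i) * c * (i⁻¹ * c⁻¹ * i⁻¹) by group, hii, one_mul,
      show (i * c * i⁻¹ * c⁻¹)⁻¹ = c * (i * c⁻¹ * i⁻¹) by group, invol_inv hi]
  -- a minimal invariant subgroup
  let Good : Subgroup G → Prop := fun A => A ≤ D ∧ A ≠ ⊥ ∧ (∀ d ∈ D, ∀ a ∈ A, d * a * d⁻¹ ∈ A) ∧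
    ∀ a ∈ A, i * a * i⁻¹ ∈ A
  obtain ⟨A, -, hmin⟩ := exists_minimal_le_of_wellFoundedLT Good D ⟨le_rfl, fun e => by
      rw [e, card_bot] at h63; exact absurd (Nat.le_of_dvd one_pos h63) (by norm_num),
    fun d hd a ha => D.mul_mem (D.mul_mem hd ha) (D.inv_mem hd), hiD⟩
  obtain ⟨hAD, hA1, hAn, hAi⟩ := hmin.prop
  have hab : ∀ a ∈ A, ∀ b ∈ A, a * b = b * a := by
    have hlt : ⁅A, A⁆ < A := by
      refine lt_of_le_of_ne (commutator_le_self A) fun e => ?_
      haveI : Nontrivial A := (nontrivial_iff_ne_bot A).2 hA1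
      haveI : Group.IsSolvable A := CfsgLib.Bender.isSolvable_of_odd_card (hDodd.of_dvd_nat (card_dvd_of_le hAD))
      refine (Group.IsSolvable.commutator_lt_top_of_nontrivial (G := A)).ne (map_injective A.subtype_injective ?_)
      rw [commutator_def, map_commutator, ← MonoidHom.range_eq_map, range_subtype, e]
    have hbot : ⁅A, A⁆ = ⊥ := by
      by_contra hne
      have hconj : ∀ g : G, (∀ a ∈ A, g * a * g⁻¹ ∈ A) → ∀ a ∈ ⁅A, A⁆, g * a * g⁻¹ ∈ ⁅A, A⁆ := by
        intro g hg a ha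
        have h1 : A.map (MulAut.conj g).toMonoidHom ≤ A := by rintro _ ⟨x, hx, rfl⟩; exact hg x hx
        exact commutator_mono h1 h1 (map_commutator A A (MulAut.conj g).toMonoidHom ▸ mem_map_of_mem _ ha)
      exact hlt.not_ge (hmin.le_of_le ⟨hlt.le.trans hAD, hne, fun d hd => hconj d (hAn d hd), hconj i hAi⟩ hlt.le)
    intro a ha b hb
    have hcen := commutator_eq_bot_iff_le_centralizer.1 hbot ha
    exact (mem_centralizer_iff.1 hcen b hb).symm
  obtain ⟨l, hl, hlA⟩ := Nat.exists_prime_and_dvd (n := Nat.card A) fun e => hA1 (eq_bot_of_card_eq A e)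
  haveI := Fact.mk hl
  have hexp : ∀ a ∈ A, a ^ l = 1 := by
    let K : Subgroup G :=
      { carrier := {a | a ∈ A ∧ a ^ l = 1}
        one_mem' := ⟨A.one_mem, one_pow l⟩
        mul_mem' := fun {a b} ha hb => ⟨A.mul_mem ha.1 hb.1, by
          rw [(show Commute a b from hab a ha.1 b hb.1).mul_pow, ha.2, hb.2, one_mul]⟩
        inv_mem' := fun {a} ha => ⟨A.inv_mem ha.1, by rw [inv_pow, ha.2, inv_one]⟩ }
    have hKne : K ≠ ⊥ := by
      obtain ⟨a, ha⟩ := exists_prime_orderOf_dvd_card' (G := A) l hlA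
      intro e
      have h2 : (a : G) ∈ K := ⟨a.2, by rw [← ha, ← SubgroupClass.coe_pow, pow_orderOf_eq_one]; rfl⟩
      rw [e, mem_bot] at h2
      rw [show a = 1 from Subtype.ext h2, orderOf_one] at ha
      exact hl.ne_one ha.symm
    have hle : A ≤ K := hmin.le_of_le ⟨fun a ha => hAD ha.1, hKne,
      fun d hd a ha => ⟨hAn d hd a ha.1, by rw [conj_pow, ha.2, mul_one, mul_inv_cancel]⟩,
      fun a ha => ⟨hAi a ha.1, by rw [conj_pow, ha.2, mul_one, mul_inv_cancel]⟩⟩ (fun a ha => ha.1)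
    exact fun a ha => (hle ha).2
  have hl2 : Odd l := hDodd.of_dvd_nat (hlA.trans (card_dvd_of_le hAD))
  -- semiregularity
  have hfree : ∀ b ∈ A, b ≠ 1 → ∀ z ∈ Z, Commute b z → z = 1 := by
    intro b hb hb1 z hz hbz
    by_contra hz1
    obtain ⟨y, hy, hby⟩ : ∃ y ∈ Z, ¬ Commute b y := by
      by_contra hno
      push Not at hno
      exact hb1 (hfaith b (hAD hb) hno)
    have hinv : ∀ x ∈ Z, x⁻¹ = x := fun x hx => inv_eq_of_mul_eq_one_right (h.sq x hx)
    -- a commutator commuting with `b` is trivial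
    have hkey : ∀ x ∈ Z, Commute b (b * x * b⁻¹ * x) → b * x * b⁻¹ * x = 1 := by
      intro x hx hc
      set w := b * x * b⁻¹ * x with hw
      have hwZ : w ∈ Z := Z.mul_mem (hDZ b (hAD hb) x hx) hx
      have hstep : b * x * b⁻¹ = w * x := by rw [hw, mul_assoc _ x x, h.sq x hx, mul_one]
      have hpow : ∀ j : ℕ, b ^ j * x * (b ^ j)⁻¹ = w ^ j * x := by
        intro j
        induction j with
        | zero => simp
        | succ j ih =>
          calc b ^ (j + 1) * x * (b ^ (j + 1))⁻¹ = b * (b ^ j * x * (b ^ j)⁻¹) * b⁻¹ := by rw [pow_succ']; group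
            _ = (b * w ^ j * b⁻¹) * (b * x * b⁻¹) := by rw [ih]; group
            _ = w ^ j * (w * x) := by rw [(hc.pow_right j).eq, mul_inv_cancel_right]; exact congrArg (w ^ j * ·) hstep
            _ = _ := by rw [pow_succ]; exact (mul_assoc _ _ _).symm
      have h1 := hpow l
      rw [hexp b hb, one_mul, inv_one, mul_one] at h1
      have h2 : w ^ l = 1 := mul_eq_right.1 h1.symm
      obtain ⟨c, hc'⟩ := hl2
      rw [hc', pow_succ, pow_mul, pow_two, h.sq w hwZ, one_pow, one_mul] at h2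
      exact h2
    set w := b * y * b⁻¹ * y with hw
    have hwZ : w ∈ Z := Z.mul_mem (hDZ b (hAD hb) y hy) hy
    have hbw : ¬ Commute b w := fun hc => hby (by
      have h1 := hkey y hy hc
      rw [mul_eq_one_iff_eq_inv, hinv y hy] at h1
      exact mul_inv_eq_iff_eq_mul.1 h1)
    have hzw1 : z * w ≠ 1 := fun e => hbw (by
      rw [← show z = w by rw [mul_eq_one_iff_eq_inv.1 e, hinv w hwZ]]; exact hbz)
    set S := fun x => A ⊓ centralizer ({x} : Set G) with hS
    have hlt : S (z * w) < S z := by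
      refine lt_of_le_of_ne (fun a ha => ?_) fun e => hbw ?_
      · refine ⟨ha.1, mem_centralizer_singleton_iff.2 ?_⟩
        have hc : a * (z * w) * a⁻¹ = z * w := by rw [mem_centralizer_singleton_iff.1 ha.2, mul_inv_cancel_right]
        set x := a * z * a⁻¹ * z with hx
        have haD := hAD ha.1
        have hwa : a * w * a⁻¹ ∈ Z := hDZ a haD w hwZ
        have hza : a * z * a⁻¹ ∈ Z := hDZ a haD z hz
        have hx' : x = a * w * a⁻¹ * w := by
          rw [hx]
          calc a * z * a⁻¹ * z = a * z * a⁻¹ * (z * w) * w⁻¹ := by group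
            _ = a * z * a⁻¹ * (a * (z * w) * a⁻¹) * w⁻¹ := by rw [hc]
            _ = (a * z * a⁻¹ * (a * z * a⁻¹)) * (a * w * a⁻¹) * w⁻¹ := by group
            _ = _ := by rw [h.sq _ hza, one_mul, hinv w hwZ]
        have hbx : Commute b x := by
          have h1 : Commute b a := hab b hb a ha.1
          exact ((h1.mul_right hbz).mul_right h1.inv_right).mul_right hbz
        set y' := a * y * a⁻¹ * y with hy'
        have hxy : x = b * y' * b⁻¹ * y' := by
          have hba : Commute b a := hab b hb a ha.1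
          have hby' : b * y * b⁻¹ ∈ Z := hDZ b (hAD hb) y hy
          have hay : a * y * a⁻¹ ∈ Z := hDZ a haD y hy
          rw [hx', hw, hy']
          calc a * (b * y * b⁻¹ * y) * a⁻¹ * (b * y * b⁻¹ * y)
              = (a * b) * y * (a * b)⁻¹ * ((a * y * a⁻¹) * (b * y * b⁻¹)) * y := by group
            _ = (b * a) * y * (b * a)⁻¹ * ((b * y * b⁻¹) * (a * y * a⁻¹)) * y := by
                rw [hba.eq, (h.commute hay hby').eq]
            _ = _ := by group
        have hx1 : x = 1 := hxy ▸ hkey y' (Z.mul_mem (hDZ a haD y hy) hy) (hxy ▸ hbx)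
        rw [hx, mul_eq_one_iff_eq_inv, hinv z hz] at hx1
        exact mul_inv_eq_iff_eq_mul.1 hx1
      · have hm : b ∈ S z := ⟨hb, mem_centralizer_singleton_iff.2 hbz.eq⟩
        rw [← e] at hm
        have h1 : Commute b (z * w) := mem_centralizer_singleton_iff.1 hm.2
        have h2 := hbz.inv_right.mul_right h1
        rwa [inv_mul_cancel_left] at h2
    obtain ⟨d, hd, hdz⟩ := transitive_two_point h.se (u := i) (h.invol hz hz1) (h.le hz)
      (h.le (Z.mul_mem hz hwZ)) (h.invol (Z.mul_mem hz hwZ) hzw1)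
    have hle : (S z).map (MulAut.conj d).toMonoidHom ≤ S (z * w) := by
      rintro _ ⟨a, ha, rfl⟩
      refine ⟨hAn d hd a ha.1, mem_centralizer_singleton_iff.2 ?_⟩
      show d * a * d⁻¹ * (z * w) = (z * w) * (d * a * d⁻¹)
      rw [← hdz, show d * a * d⁻¹ * (d * z * d⁻¹) = d * (a * z) * d⁻¹ by group,
        mem_centralizer_singleton_iff.1 ha.2]
      group
    have h3 := Nat.le_of_dvd Nat.card_pos (card_dvd_of_le hle)
    rw [card_map_of_injective (MulAut.conj d).injective] at h3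
    exact hlt.ne (eq_of_le_of_card_ge hlt.le h3)
  haveI hAc : IsMulCommutative A := ⟨⟨fun a b => Subtype.ext (hab _ a.2 _ b.2)⟩⟩
  have hAcard : Nat.card A = l := by
    have hcyc : IsCyclic A := by
      by_contra hcyc
      obtain ⟨z, hz, hzo⟩ := h.exists_invol
      have hcop : (Nat.card A).Coprime (Nat.card Z) := by
        rw [h.card]; exact (Nat.coprime_two_right.2 (hDodd.of_dvd_nat (card_dvd_of_le hAD))).pow_right 6
      have hle : Z ≤ ⊥ := by
        refine CfsgLib.Coprime.le_of_centralizers_le hcyc (fun a ha => ?_) hcop fun a ha ha1 x hx => ?_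
        · refine CfsgLib.Coprime.conjBy_eq_self_iff.1 (eq_of_le_of_card_ge ?_ (CfsgLib.Coprime.card_conjBy a Z).ge)
          rintro _ ⟨x, hx, rfl⟩
          exact hDZ a (hAD ha) x hx
        · exact mem_bot.2 (hfree a ha ha1 x hx.1 (mem_centralizer_singleton_iff.1 hx.2).symm)
      exact invol_ne_one hzo (mem_bot.1 (hle hz))
    obtain ⟨g, hg⟩ := hcyc.exists_ofOrder_eq_natCard
    refine Nat.dvd_antisymm ?_ hlA
    rw [← hg]
    exact orderOf_dvd_of_pow_eq_one (Subtype.ext (hexp _ g.2))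
  obtain ⟨a₁, ha₁, ha₁1⟩ : ∃ a ∈ A, a ≠ 1 := by
    by_contra hno
    push Not at hno
    exact hA1 ((eq_bot_iff_forall A).2 hno)
  set a := i * a₁ * i⁻¹ * a₁⁻¹ with ha
  have haA : a ∈ A := A.mul_mem (hAi a₁ ha₁) (A.inv_mem ha₁)
  have ha1 : a ≠ 1 := fun e => by
    obtain ⟨z, hz, hz1, hc⟩ := h.exists_inside hN hi hiH (hAD ha₁)
      (mul_inv_eq_iff_eq_mul.1 (mul_inv_eq_one.1 e)).symm
    exact hz1 (hfree a₁ ha₁ ha₁1 z hz hc)
  have hai : i * a * i⁻¹ = a⁻¹ := hinvd a₁
  have hgen : ∀ x ∈ A, x ∈ zpowers a := by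
    intro x hx
    have h1 : zpowers a = A := eq_of_le_of_card_ge (zpowers_le.2 haA) (by
      rw [hAcard, Nat.card_zpowers, orderOf_eq_prime (hexp a haA) ha1])
    rw [h1]; exact hx
  -- `A` has order seven or three
  have hl37 : l = 7 ∨ l = 3 := by
    have h1 := card_modEq_centralized (hexp a haA) Z (hDZ a (hAD haA))
    have h2 : Z ⊓ centralizer ({a} : Set G) = ⊥ := (eq_bot_iff_forall _).2 fun z hz =>
      hfree a haA ha1 z hz.1 (mem_centralizer_singleton_iff.1 hz.2).symm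
    rw [h2, card_bot, h.card] at h1
    have h3 : l ∣ 63 := (Nat.modEq_iff_dvd' (by norm_num)).1 h1.symm
    have h4 : l ≤ 63 := Nat.le_of_dvd (by norm_num) h3
    interval_cases l
    all_goals first | omega | exact absurd hl (by norm_num)
  -- the centralizer of `A` in `D`
  set C := D ⊓ centralizer ({a} : Set G) with hC
  obtain ⟨q, hq, hq2, hlq, hqC⟩ : ∃ q, q.Prime ∧ Odd q ∧ (l = 7 ∧ q = 3 ∨ l = 3 ∧ q = 7) ∧ q ∣ Nat.card C := by
    set O := {x : G | ∃ d ∈ D, d * a * d⁻¹ = x} with hO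
    letI : MulAction D G := MulAction.compHom G ((MulAut.conj (G := G)).comp D.subtype)
    have horb : MulAction.orbit D a = O := by
      ext x
      constructor
      · rintro ⟨d, rfl⟩; exact ⟨d, d.2, rfl⟩
      · rintro ⟨d, hd, rfl⟩; exact ⟨⟨d, hd⟩, rfl⟩
    have hstab : MulAction.stabilizer D a = C.subgroupOf D := by
      ext d
      rw [MulAction.mem_stabilizer_iff, mem_subgroupOf, hC, mem_inf, mem_centralizer_singleton_iff,
        and_iff_right d.2]
      show (d : G) * a * (d : G)⁻¹ = a ↔ _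
      exact mul_inv_eq_iff_eq_mul
    have h1 : O.ncard * Nat.card C = Nat.card D := by
      rw [← horb, ← MulAction.index_stabilizer D a, hstab,
        ← Nat.card_congr (subgroupOfEquivOfLe (inf_le_left : C ≤ D)).toEquiv]
      exact index_mul_card _
    have h2 : O.ncard ≤ l - 1 := by
      have h3 : O ⊆ (A : Set G) \ {1} := by
        rintro _ ⟨d, hd, rfl⟩
        exact ⟨hAn d hd a haA, fun e => ha1 (by
          rw [Set.mem_singleton_iff, mul_inv_eq_one] at e
          exact mul_eq_left.1 e)⟩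
      refine (Set.ncard_le_ncard h3).trans (le_of_eq ?_)
      rw [Set.ncard_sdiff (Set.singleton_subset_iff.2 A.one_mem), Set.ncard_singleton, ← Nat.card_coe_set_eq]
      exact congrArg (· - 1) hAcard
    have hOodd : Odd O.ncard := hDodd.of_dvd_nat (Dvd.intro _ h1)
    rw [← h1] at h63
    rcases hl37 with rfl | rfl
    · refine ⟨3, Nat.prime_three, by decide, Or.inl ⟨rfl, rfl⟩, ?_⟩
      obtain ⟨e, he⟩ := hOodd
      rcases (show O.ncard = 1 ∨ O.ncard = 3 ∨ O.ncard = 5 by omega) with e1 | e1 | e1 <;> rw [e1] at h63 <;> omega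
    · refine ⟨7, by norm_num, by decide, Or.inr ⟨rfl, rfl⟩, ?_⟩
      obtain ⟨e, he⟩ := hOodd
      rw [show O.ncard = 1 by omega] at h63
      omega
  haveI := Fact.mk hq
  have hiC : zpowers i ≤ normalizer (C : Set G) := by
    refine zpowers_le.2 (CfsgLib.Coprime.conjBy_eq_self_iff.1 (eq_of_le_of_card_ge ?_ (CfsgLib.Coprime.card_conjBy i C).ge))
    rintro _ ⟨x, ⟨hx1, hx2⟩, rfl⟩
    refine ⟨hiD x hx1, mem_centralizer_singleton_iff.2 ?_⟩
    show i * x * i⁻¹ * a = a * (i * x * i⁻¹)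
    have h1 : Commute x a⁻¹ := (show Commute x a from mem_centralizer_singleton_iff.1 hx2).inv_right
    have h2 := h1.map (MulAut.conj i).toMonoidHom
    simp only [MulEquiv.coe_toMonoidHom, MulAut.conj_apply] at h2
    rw [← conj_inv, hai, inv_inv] at h2
    exact h2.eq
  have hCodd : Odd (Nat.card C) := hDodd.of_dvd_nat (card_dvd_of_le inf_le_left)
  obtain ⟨R, hR, hRi⟩ := CfsgLib.Coprime.exists_invariant_sylow hiC
    (by rw [Nat.card_zpowers, hi]; exact Nat.coprime_two_left.2 hCodd)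
    (Or.inl (CfsgLib.Coprime.isSolvable_of_isMulCommutative inferInstance)) q
  have hfreeq : ∀ x ∈ R, x ^ q = 1 → x ≠ 1 → ∀ z ∈ Z, Commute x z → z = 1 := by
    intro x hx hxq hx1
    obtain ⟨hxD, hxa⟩ := hR.1 hx
    set F := Z ⊓ centralizer ({x} : Set G) with hF
    have h1 := card_modEq_centralized hxq Z (hDZ x hxD)
    have hFa : ∀ y ∈ F, a * y * a⁻¹ ∈ F := by
      rintro y ⟨hy1, hy2⟩
      refine ⟨hDZ a (hAD haA) y hy1, mem_centralizer_singleton_iff.2 ?_⟩
      have e1 : Commute x y := (mem_centralizer_singleton_iff.1 hy2).symm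
      have e2 : Commute x a := mem_centralizer_singleton_iff.1 hxa
      exact (((e2.mul_right e1).mul_right e2.inv_right).eq).symm
    have h2 := card_modEq_centralized (hexp a haA) F hFa
    have h3 : F ⊓ centralizer ({a} : Set G) = ⊥ := (eq_bot_iff_forall _).2 fun z hz =>
      hfree a haA ha1 z hz.1.1 (mem_centralizer_singleton_iff.1 hz.2).symm
    rw [h3, card_bot] at h2
    obtain ⟨k, hk⟩ := IsPGroup.iff_card.1 (h.isPGroup.to_le (inf_le_left : F ≤ Z))
    have hk6 : k ≤ 6 := by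
      have h4 := Nat.le_of_dvd Nat.card_pos (card_dvd_of_le (inf_le_left : F ≤ Z))
      rw [hk, h.card] at h4
      exact (Nat.pow_le_pow_iff_right one_lt_two).1 h4
    intro z hz hxz
    have hzF : z ∈ F := ⟨hz, mem_centralizer_singleton_iff.2 hxz.eq.symm⟩
    rcases Nat.lt_or_ge k 6 with hk' | hk'
    · rw [← hF, h.card, hk] at h1
      rw [hk] at h2
      rcases Nat.eq_zero_or_pos k with hk0 | hk0
      · rw [hk0, pow_zero] at hk
        exact mem_bot.1 (eq_bot_of_card_eq F hk ▸ hzF)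
      · exfalso
        rcases hlq with ⟨rfl, rfl⟩ | ⟨rfl, rfl⟩ <;> interval_cases k <;>
          (simp only [Nat.ModEq] at h1 h2; omega)
    · exfalso
      have hFZ : F = Z := eq_of_le_of_card_ge inf_le_left (by rw [hk, h.card, show k = 6 by omega])
      exact hx1 (hfaith x hxD fun w hw => (mem_centralizer_singleton_iff.1 (hFZ.symm ▸ hw : w ∈ F).2).symm)
  have hRne : 1 < Nat.card R := by
    rw [hR.2]
    exact Nat.one_lt_pow (hq.factorization_pos_of_dvd Nat.card_pos.ne' hqC).ne' hq.one_lt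
  obtain ⟨⟨c, hcR⟩, hco⟩ := exists_prime_orderOf_dvd_card' (G := R) q (by
    rw [hR.2]; exact dvd_pow_self q (hq.factorization_pos_of_dvd Nat.card_pos.ne' hqC).ne')
  rw [Subgroup.orderOf_mk] at hco
  have hc1 : c ≠ 1 := fun e => by rw [e, orderOf_one] at hco; exact hq.ne_one hco.symm
  set b₀ := i * c * i⁻¹ * c⁻¹ with hb₀
  have hb₀R : b₀ ∈ R := R.mul_mem ((mem_normalizer_iff.1 (hRi (mem_zpowers i)) c).1 hcR) (R.inv_mem hcR)
  have hb₀1 : b₀ ≠ 1 := fun e => by
    obtain ⟨z, hz, hz1, hcz⟩ := h.exists_inside hN hi hiH (hR.1 hcR).1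
      (mul_inv_eq_iff_eq_mul.1 (mul_inv_eq_one.1 e)).symm
    exact hz1 (hfreeq c hcR (by rw [← hco, pow_orderOf_eq_one]) hc1 z hz hcz)
  obtain ⟨j, hj⟩ := hR.isPGroup ⟨b₀, hb₀R⟩
  obtain ⟨m, -, hm⟩ := (Nat.dvd_prime_pow hq).1 (orderOf_dvd_of_pow_eq_one (congrArg Subtype.val hj : b₀ ^ q ^ j = 1))
  have hm0 : m ≠ 0 := fun e => hb₀1 (orderOf_eq_one_iff.1 (by rw [hm, e, pow_zero]))
  set b := b₀ ^ q ^ (m - 1) with hb
  have hbR : b ∈ R := R.pow_mem hb₀R _
  have hbq : b ^ q = 1 := by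
    rw [hb, ← pow_mul, ← pow_succ, Nat.sub_add_cancel (Nat.pos_of_ne_zero hm0), ← hm, pow_orderOf_eq_one]
  have hb1 : b ≠ 1 := fun e => by
    have h1 := orderOf_dvd_of_pow_eq_one e
    rw [hm, Nat.pow_dvd_pow_iff_le_right hq.one_lt] at h1
    omega
  have hbi : i * b * i⁻¹ = b⁻¹ := by rw [hb, ← conj_pow, hb₀, hinvd c, inv_pow]
  have hab' : Commute a b := (mem_centralizer_singleton_iff.1 (hR.1 hbR).2).symm
  rcases hlq with ⟨rfl, rfl⟩ | ⟨rfl, rfl⟩
  · exact ⟨a, b, hAD haA, (hR.1 hbR).1, hexp a haA, hbq, hai, hbi, hab', hfree a haA ha1,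
      hfreeq b hbR hbq hb1⟩
  · exact ⟨b, a, (hR.1 hbR).1, hAD haA, hbq, hexp a haA, hbi, hai, hab'.symm, hfreeq b hbR hbq hb1,
      hfree a haA ha1⟩

end Frame

end CfsgLib.Bender.ModRank
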