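import Cfsg.Agent.Lib.Bender.Consumers.ModRank.Half
import Mathlib.Data.ZMod.Basic

/-!
# Semiregular inverted elements and the fixed points of the involution
-/

set_option autoImplicit false
set_option linter.unusedSectionVars false

namespace CfsgLib.Bender.ModRank

open Module LinearMap

universe u v

variable {G : Type u} [Group G] {V : Type v} [AddCommGroup V] [Module (ZMod 2) V]
  [Module.Finite (ZMod 2) V] (ρ : Representation (ZMod 2) G V)

/-- Each orbit of an inverted semiregular element meets the fixed space of the involution at most once. -/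
theorem semiregular_bound {d i : G} {q : ℕ} (hq : Odd q) (hdq : d ^ q = 1) (hi : i * i = 1)
    (hid : i * d * i⁻¹ = d⁻¹) (U : Submodule (ZMod 2) V) (hUd : ∀ v ∈ U, ρ d v ∈ U)
    (hUi : ∀ v ∈ U, ρ i v ∈ U)
    (hsr : ∀ j, 0 < j → j < q → ∀ v ∈ U, ρ (d ^ j) v = v → v = 0) :
    q * (2 ^ (finrank (ZMod 2) U - finrank (ZMod 2) U / 2) - 1) ≤
      2 ^ finrank (ZMod 2) U - 1 := by
  classical
  haveI : Finite V := Module.finite_of_finite (ZMod 2)
  letI := Fintype.ofFinite V
  set F : Submodule (ZMod 2) V := U ⊓ ker (ρ i - 1) with hF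
  have hFdim : finrank (ZMod 2) U - finrank (ZMod 2) U / 2 ≤ finrank (ZMod 2) F := by
    have h1 := ((ρ i - 1).domRestrict U).finrank_range_add_finrank_ker
    rw [LinearMap.range_domRestrict, LinearMap.ker_domRestrict] at h1
    have h2 : U.map (ρ i - 1) ≤ F := by
      rintro _ ⟨v, hv, rfl⟩
      exact ⟨U.sub_mem (hUi v hv) hv, range_le_ker ρ hi ⟨v, rfl⟩⟩
    have h3 := Submodule.finrank_mono h2
    have h4 := LinearEquiv.finrank_eq
      (Submodule.equivMapOfInjective U.subtype U.injective_subtype (Submodule.comap U.subtype (ker (ρ i - 1))))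
    rw [Submodule.map_comap_subtype] at h4
    rw [h4, ← hF] at h1
    omega
  have hi1 : i⁻¹ = i := inv_eq_of_mul_eq_one_right hi
  have hpowi : ∀ (m : ℕ) (v : V), ρ i v = v → ρ i (ρ (d ^ m) v) = ρ (d ^ m)⁻¹ v := by
    intro m v hv
    have h1 : i * d ^ m = (d ^ m)⁻¹ * i := by
      have : i * d ^ m * i⁻¹ = (d ^ m)⁻¹ := by rw [← conj_pow, hid, inv_pow]
      rw [← this, inv_mul_cancel_right]
    rw [← mul_apply', h1, mul_apply', hv]
  have hpowU : ∀ m : ℕ, ∀ v ∈ U, ρ (d ^ m) v ∈ U := by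
    intro m
    induction m with
    | zero => intro v hv; rwa [pow_zero, map_one]
    | succ m ih => intro v hv; rw [pow_succ, mul_apply']; exact ih _ (hUd v hv)
  have hmem : ∀ v, v ∈ F ↔ v ∈ U ∧ ρ i v = v := fun v => by
    rw [hF, Submodule.mem_inf, mem_ker, sub_apply', sub_eq_zero]
  let f : Fin q × {v : F // v ≠ 0} → {v : U // v ≠ 0} := fun x =>
    ⟨⟨ρ (d ^ (x.1 : ℕ)) x.2.1, hpowU _ _ ((hmem _).1 x.2.1.2).1⟩, fun e =>
      x.2.2 (Subtype.ext (injective_apply ρ (d ^ (x.1 : ℕ)) (by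
          have h := congrArg Subtype.val e
          simp only [ZeroMemClass.coe_zero, map_zero] at h ⊢
          exact h)))⟩
  have hf : Function.Injective f := by
    rintro ⟨j, v⟩ ⟨k, w⟩ h
    have e : ρ (d ^ (j : ℕ)) (v.1 : V) = ρ (d ^ (k : ℕ)) (w.1 : V) := congrArg (fun x => ((x.1 : U) : V)) h
    have e2 := congrArg (ρ i) e
    rw [hpowi _ _ ((hmem _).1 v.1.2).2, hpowi _ _ ((hmem _).1 w.1.2).2] at e2
    -- hence `d ^ (2 * (j - k))` fixes `v`
    wlog hjk : (k : ℕ) ≤ j generalizing j k v w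
    · exact (this k w j v h.symm e.symm e2.symm (le_of_not_ge hjk)).symm
    obtain ⟨m, hm⟩ := Nat.exists_eq_add_of_le hjk
    have e3 : ρ (d ^ m) (v.1 : V) = (w.1 : V) := by
      have := congrArg (ρ (d ^ (k : ℕ))⁻¹) e
      rwa [inv_apply_self, ← mul_apply', hm, pow_add, inv_mul_cancel_left] at this
    have e4 : ρ (d ^ m)⁻¹ (v.1 : V) = (w.1 : V) := by
      have := congrArg (ρ (d ^ (k : ℕ))) e2
      rwa [apply_inv_self, ← mul_apply', hm, pow_add, _root_.mul_inv_rev,
        show d ^ (k : ℕ) * ((d ^ m)⁻¹ * (d ^ (k : ℕ))⁻¹) = (d ^ m)⁻¹ by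
          rw [← mul_assoc, ((Commute.refl d).pow_pow (k : ℕ) m).inv_right.eq, mul_inv_cancel_right]] at this
    have e5 : ρ (d ^ (2 * m)) (v.1 : V) = (v.1 : V) := by
      have h5 := congrArg (ρ (d ^ m)) e4
      rw [apply_inv_self, ← e3] at h5
      rw [two_mul, pow_add, mul_apply', ← h5]
    have hm0 : m = 0 := by
      by_contra hm0
      refine v.2 (Subtype.ext ?_)
      have hlt : m < q := by have := j.2; omega
      rcases Nat.lt_or_ge (2 * m) q with h2 | h2
      · exact hsr (2 * m) (by omega) h2 _ ((hmem _).1 v.1.2).1 e5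
      · refine hsr (2 * m - q) ?_ (by omega) _ ((hmem _).1 v.1.2).1 ?_
        · obtain ⟨c, hc⟩ := hq; omega
        · rwa [show (d : G) ^ (2 * m - q) = d ^ (2 * m) by
            conv_rhs => rw [← Nat.sub_add_cancel h2, pow_add, hdq, mul_one]]
    subst hm0
    rw [pow_zero, map_one, Module.End.one_apply] at e3
    exact Prod.ext (Fin.ext (by omega)) (Subtype.ext (Subtype.ext e3))
  have hc := Nat.card_le_card_of_injective f hf
  have cardne : ∀ W : Submodule (ZMod 2) V, Nat.card {v : W // v ≠ 0} = 2 ^ finrank (ZMod 2) W - 1 := by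
    intro W
    rw [Nat.card_eq_fintype_card, Fintype.card_subtype_compl, Fintype.card_subtype_eq,
      ← Nat.card_eq_fintype_card, Module.natCard_eq_pow_finrank (K := ZMod 2), Nat.card_zmod]
  rw [Nat.card_prod, Nat.card_fin, cardne, cardne] at hc
  refine le_trans (Nat.mul_le_mul_left q (Nat.sub_le_sub_right (Nat.pow_le_pow_right two_pos hFdim) 1)) hc

/-- A semiregular element divides the number of non-zero vectors. -/
theorem semiregular_dvd {d : G} {q : ℕ} (hq : 0 < q) (hdq : d ^ q = 1) (U : Submodule (ZMod 2) V)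
    (hUd : ∀ v ∈ U, ρ d v ∈ U) (hsr : ∀ j, 0 < j → j < q → ∀ v ∈ U, ρ (d ^ j) v = v → v = 0) :
    q ∣ 2 ^ finrank (ZMod 2) U - 1 := by
  classical
  haveI : Finite V := Module.finite_of_finite (ZMod 2)
  letI := Fintype.ofFinite V
  let D := Subgroup.zpowers d
  have hd : orderOf d ∣ q := orderOf_dvd_of_pow_eq_one hdq
  rcases Nat.eq_zero_or_pos (finrank (ZMod 2) U) with h0 | h0
  · rw [h0]; simp
  obtain ⟨v, hv, hv0⟩ := Submodule.exists_mem_ne_zero_of_ne_bot
    (p := U) (fun e => by rw [e, finrank_bot] at h0; omega)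
  have ho : orderOf d = q := by
    refine Nat.le_antisymm (Nat.le_of_dvd hq hd) (not_lt.1 fun hlt => hv0 ?_)
    exact hsr (orderOf d) (orderOf_pos_iff.2 (isOfFinOrder_iff_pow_eq_one.2 ⟨q, hq, hdq⟩)) hlt v hv
      (by rw [pow_orderOf_eq_one, map_one]; rfl)
  haveI : Finite D := Nat.finite_of_card_ne_zero (by rw [Nat.card_zpowers, ho]; omega)
  have hpowU : ∀ m : ℕ, ∀ w ∈ U, ρ (d ^ m) w ∈ U := by
    intro m
    induction m with
    | zero => intro w hw; rwa [pow_zero, map_one]
    | succ m ih => intro w hw; rw [pow_succ, mul_apply']; exact ih _ (hUd w hw)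
  have hmemD : ∀ g : D, ∀ w ∈ U, ρ (g : G) w ∈ U := by
    rintro ⟨g, hg⟩ w hw
    obtain ⟨m, -, rfl⟩ := (isOfFinOrder_iff_pow_eq_one.2 ⟨q, hq, hdq⟩).mem_zpowers_iff_mem_range_orderOf.1 hg |> Finset.mem_image.1
    exact hpowU m w hw
  letI : MulAction D {w : U // w ≠ 0} :=
    { smul := fun g x => ⟨⟨ρ (g : G) x.1, hmemD g _ x.1.2⟩, fun e => x.2 (Subtype.ext
        (injective_apply ρ (g : G) (by
          have h := congrArg Subtype.val e
          simp only [ZeroMemClass.coe_zero, map_zero] at h ⊢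
          exact h)))⟩
      one_smul := fun x => Subtype.ext (Subtype.ext (by show ρ ((1 : D) : G) _ = _; rw [OneMemClass.coe_one, map_one]; rfl))
      mul_smul := fun a b x => Subtype.ext (Subtype.ext (mul_apply' ρ _ _ _)) }
  have hstab : ∀ x : {w : U // w ≠ 0}, MulAction.stabilizer D x = ⊥ := by
    intro x
    refine (Subgroup.eq_bot_iff_forall _).2 ?_
    rintro ⟨g, hg⟩ hgx
    obtain ⟨m, hm, rfl⟩ := (isOfFinOrder_iff_pow_eq_one.2 ⟨q, hq, hdq⟩).mem_zpowers_iff_mem_range_orderOf.1 hg |> Finset.mem_image.1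
    rw [Finset.mem_range, ho] at hm
    refine Subtype.ext ?_
    rcases Nat.eq_zero_or_pos m with rfl | hm0
    · exact pow_zero d
    · exact absurd (Subtype.ext (hsr m hm0 hm _ x.1.2 (congrArg (fun y => ((y.1 : U) : V)) hgx))) x.2
  have hdvd : Nat.card D ∣ Nat.card {w : U // w ≠ 0} := by
    haveI : Finite {w : U // w ≠ 0} := inferInstance
    letI := Fintype.ofFinite (Quotient (MulAction.orbitRel D {w : U // w ≠ 0}))
    rw [Nat.card_congr (MulAction.selfEquivSigmaOrbitsQuotientStabilizer D {w : U // w ≠ 0}), Nat.card_sigma]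
    refine Finset.dvd_sum fun ω _ => ?_
    rw [hstab]
    exact dvd_of_eq (Subgroup.index_bot (G := D)).symm
  rwa [Nat.card_zpowers, ho, Nat.card_eq_fintype_card, Fintype.card_subtype_compl, Fintype.card_subtype_eq,
    ← Nat.card_eq_fintype_card, Module.natCard_eq_pow_finrank (K := ZMod 2), Nat.card_zmod] at hdvd

end CfsgLib.Bender.ModRank
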