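import Cfsg.Agent.Lib.Bender.Consumers.ModRank.Half
import Cfsg.Agent.Lib.Bender.Consumers.ModRank.Orbits
import Cfsg.Agent.Lib.Char.Zsigmondy.Main

/-!
# An inverted torus normalizing `Z`: the rank of the inverting involution
-/

set_option autoImplicit false
set_option linter.unusedSectionVars false
set_option linter.style.haveILetI false

namespace CfsgLib.Bender.ModRank

open Module LinearMap

universe u v

variable {G : Type u} [Group G] {V : Type v} [AddCommGroup V] [Module (ZMod 2) V]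
  [Module.Finite (ZMod 2) V] (ρ : Representation (ZMod 2) G V)

theorem mem_ker_sub_one {g : G} {v : V} : v ∈ ker (ρ g - 1) ↔ ρ g v = v := by
  rw [mem_ker, sub_apply', sub_eq_zero]

theorem apply_pow_fixed {g : G} {v : V} (h : ρ g v = v) : ∀ m : ℕ, ρ (g ^ m) v = v
  | 0 => by rw [pow_zero, map_one]; rfl
  | m + 1 => by rw [pow_succ, mul_apply', h, apply_pow_fixed h m]

theorem range_invariant_of_commute {g x : G} (hgx : Commute g x) :
    ∀ v ∈ range (ρ g - 1), ρ x v ∈ range (ρ g - 1) := by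
  rintro _ ⟨w, rfl⟩
  refine ⟨ρ x w, ?_⟩
  rw [sub_apply', sub_apply', map_sub, ← mul_apply', ← mul_apply', hgx.eq]

variable (Z : Subgroup G) [Finite Z]

theorem exists_comm_preimage {d : G} (hcommZ : ∀ a ∈ Z, ∀ b ∈ Z, Commute a b) (hdZ : ∀ z ∈ Z, d * z * d⁻¹ ∈ Z)
    (hfree : ∀ z ∈ Z, Commute d z → z = 1) : ∀ z ∈ Z, ∃ y ∈ Z, d * y * d⁻¹ * y⁻¹ = z := by
  let f : Z → Z := fun y => ⟨d * (y : G) * d⁻¹ * (y : G)⁻¹, Z.mul_mem (hdZ y y.2) (Z.inv_mem y.2)⟩
  have hf : Function.Injective f := by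
    intro y y' e
    have e' : d * (y : G) * d⁻¹ * (y : G)⁻¹ = d * (y' : G) * d⁻¹ * (y' : G)⁻¹ := congrArg Subtype.val e
    refine Subtype.ext (inv_mul_eq_one.1 (hfree _ (Z.mul_mem (Z.inv_mem y.2) y'.2) ?_))
    show d * ((y : G)⁻¹ * y') = (y : G)⁻¹ * y' * d
    have h1 : d * (y' : G) * d⁻¹ = d * (y : G) * d⁻¹ * ((y : G)⁻¹ * y') := by
      calc d * (y' : G) * d⁻¹ = (d * (y' : G) * d⁻¹ * (y' : G)⁻¹) * y' := by group
        _ = _ := by rw [← e']; group
    calc d * ((y : G)⁻¹ * y') = (d * (y : G) * d⁻¹)⁻¹ * (d * (y' : G) * d⁻¹) * d := by group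
      _ = _ := by rw [h1, inv_mul_cancel_left]
  intro z hz
  obtain ⟨y, hy⟩ := Finite.injective_iff_surjective.1 hf ⟨z, hz⟩
  exact ⟨y, y.2, congrArg Subtype.val hy⟩

/-- A torus of primitive prime order inverted by `i`. -/
theorem le_rk_of_torus {d i : G} {r n : ℕ} (hn : 2 ≤ n) (hr : r.Prime) (hr2 : Odd r) (hdvd : r ∣ 2 ^ n - 1)
    (hprim : ∀ j, 1 ≤ j → j < n → ¬ r ∣ 2 ^ j - 1) (hZ : IsPGroup 2 Z)
    (hcommZ : ∀ a ∈ Z, ∀ b ∈ Z, Commute a b) (hdZ : ∀ z ∈ Z, d * z * d⁻¹ ∈ Z)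
    (hfree : ∀ z ∈ Z, Commute d z → z = 1) (hdr : d ^ r = 1) (hi : i * i = 1) (hid : i * d * i⁻¹ = d⁻¹)
    (hρ : Function.Injective ρ) (hd1 : d ≠ 1) (hgen : Subgroup.closure (insert i (Z : Set G)) = ⊤)
    (hirr : ∀ U : Submodule (ZMod 2) V, (∀ g, ∀ v ∈ U, ρ g v ∈ U) → U = ⊥ ∨ U = ⊤)
    (hnt : ∃ z ∈ Z, ρ z ≠ 1) (hdim : n ≠ 3 → 2 * n ≤ finrank (ZMod 2) V) : n ≤ rk ρ i := by
  classical
  haveI := Fact.mk hr
  set L := range (ρ d - 1) with hL
  have hLd : ∀ v ∈ L, ρ d v ∈ L := range_invariant_of_commute ρ (Commute.refl d)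
  have hfix : ∀ j, 0 < j → j < r → ∀ v, ρ (d ^ j) v = v → ρ d v = v := by
    intro j hj hjr v hv
    obtain ⟨e, he⟩ := exists_pow_eq_self_of_coprime (x := d)
      (show j.Coprime (orderOf d) by
        rw [orderOf_eq_prime hdr hd1]
        exact (hr.coprime_iff_not_dvd.2 (Nat.not_dvd_of_pos_of_lt hj hjr)).symm)
    have := apply_pow_fixed ρ hv e
    rwa [he] at this
  have hfpf : ∀ v ∈ L, ρ d v = v → v = 0 := fun v hv e =>
    disjoint_ker_range ρ hr2 hdr ((mem_ker_sub_one ρ).2 e) hv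
  have hmul : ∀ U : Submodule (ZMod 2) V, U ≤ L → (∀ v ∈ U, ρ d v ∈ U) → n ∣ finrank (ZMod 2) U := by
    intro U hUL hUd
    have h1 := semiregular_dvd ρ hr.pos hdr U hUd fun j hj hjr v hv e => hfpf v (hUL hv) (hfix j hj hjr v e)
    set m := finrank (ZMod 2) U
    by_contra hnm
    have hs : 1 ≤ m % n := by
      rcases Nat.eq_zero_or_pos (m % n) with h0 | h0
      · exact absurd (Nat.dvd_of_mod_eq_zero h0) hnm
      · exact h0
    refine hprim (m % n) hs (Nat.mod_lt _ (by omega)) ?_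
    rw [CfsgLib.Char.Zsigmondy.dvd_pow_sub_one_iff one_le_two] at hdvd h1 ⊢
    rw [← Nat.div_add_mod m n, pow_add, pow_mul, hdvd, one_pow, one_mul] at h1
    exact h1
  have hm0 : finrank (ZMod 2) L ≠ 0 := by
    intro h0
    rw [Submodule.finrank_eq_zero, LinearMap.range_eq_bot, sub_eq_zero] at h0
    exact hd1 (hρ (h0.trans (map_one ρ).symm))
  have hLi := (ker_range_invariant ρ hid hi).2
  rcases Nat.lt_or_ge (finrank (ZMod 2) L) (2 * n) with hlt | hge
  swap
  · have := fpf_rank ρ hr2 hdr hi hid L hLd hLi hfpf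
    omega
  obtain ⟨c, hc⟩ := hmul L le_rfl hLd
  have hLn : finrank (ZMod 2) L = n := by
    rcases c with _ | _ | c
    · rw [mul_zero] at hc; exact absurd hc hm0
    · simpa using hc
    · rw [hc] at hlt; nlinarith
  have hn3 : n ≠ 3 := by
    rintro rfl
    have hr7 : r = 7 := by
      have h1 : r ≤ 7 := Nat.le_of_dvd (by norm_num) hdvd
      interval_cases r
      all_goals first | rfl | (norm_num at hr; done) | (norm_num at hdvd; done)
    have h2 := semiregular_bound ρ hr2 hdr hi hid L hLd hLi fun j hj hjr v hv e => hfpf v hv (hfix j hj hjr v e)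
    rw [hLn, hr7] at h2
    norm_num at h2
  have hirrL : ∀ U : Submodule (ZMod 2) V, U ≤ L → (∀ v ∈ U, ρ d v ∈ U) → U = ⊥ ∨ U = L := by
    intro U hUL hUd
    obtain ⟨e, he⟩ := hmul U hUL hUd
    rcases e with _ | e
    · exact Or.inl (Submodule.finrank_eq_zero.1 (by rw [he, mul_zero]))
    · refine Or.inr (Submodule.eq_of_le_of_finrank_le hUL ?_)
      rw [hLn, he]; exact Nat.le_mul_of_pos_right _ (Nat.succ_pos e)
  have := finrank_le_of_irreducible ρ Z hdZ (exists_comm_preimage Z hcommZ hdZ hfree) hZ hr2 hdr hi hid hgen hirr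
    hnt hirrL
  have := hdim hn3
  omega

/-- The points moved into `W` by all of `Z`. -/
def above (W : Submodule (ZMod 2) V) : Submodule (ZMod 2) V where
  carrier := {x | ∀ z ∈ Z, ρ z x - x ∈ W}
  add_mem' := fun {a b} ha hb z hz => by
    rw [map_add, show ρ z a + ρ z b - (a + b) = (ρ z a - a) + (ρ z b - b) by abel]
    exact W.add_mem (ha z hz) (hb z hz)
  zero_mem' := fun z _ => by rw [map_zero, sub_zero]; exact W.zero_mem
  smul_mem' := fun c a ha z hz => by rw [map_smul, ← smul_sub]; exact W.smul_mem c (ha z hz)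

/-- Two commuting tori with fixed-point-free action on `Z` and trivial product of commutators. -/
theorem fixed_by_of_tori {a b : G} (hcommZ : ∀ y ∈ Z, ∀ z ∈ Z, Commute y z) (hsq : ∀ z ∈ Z, z * z = 1)
    (hZ : IsPGroup 2 Z) (haZ : ∀ z ∈ Z, a * z * a⁻¹ ∈ Z) (hbZ : ∀ z ∈ Z, b * z * b⁻¹ ∈ Z)
    (hsurja : ∀ z ∈ Z, ∃ y ∈ Z, a * y * a⁻¹ * y⁻¹ = z) (hsurjb : ∀ z ∈ Z, ∃ y ∈ Z, b * y * b⁻¹ * y⁻¹ = z)
    (hzero : ∀ v, (ρ a - 1) ((ρ b - 1) v) = 0) {v : V} (hav : ρ a v = v) (hbv : ρ b v = v) :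
    ∀ z ∈ Z, ρ z v = v := by
  classical
  set Wk : ℕ → Submodule (ZMod 2) V := fun k => (above ρ Z)^[k] ⊥ with hWk
  have hsucc : ∀ k, Wk (k + 1) = above ρ Z (Wk k) := fun k => by
    rw [hWk]; exact Function.iterate_succ_apply' _ _ _
  have hinv : ∀ k, ∀ z ∈ Z, ∀ x ∈ Wk k, ρ z x - x ∈ Wk k := by
    intro k
    induction k with
    | zero =>
      intro z hz x hx
      rw [show x = 0 from (Submodule.mem_bot (ZMod 2)).1 hx, map_zero, sub_zero]; exact Submodule.zero_mem _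
    | succ k ih =>
      intro z hz x hx
      rw [hsucc] at hx ⊢
      intro y hy
      exact ih y hy _ (hx z hz)
  have hmem : ∀ k, ∀ z ∈ Z, ∀ x ∈ Wk k, ρ z x ∈ Wk k := fun k z hz x hx => by
    have := Submodule.add_mem _ (hinv k z hz x hx) hx
    rwa [sub_add_cancel] at this
  have hgrow : ∀ k, k ≤ finrank (ZMod 2) (Wk k) ∨ Wk k = ⊤ := by
    intro k
    induction k with
    | zero => exact Or.inl (Nat.zero_le _)
    | succ k ih =>
      by_cases htop : Wk k = ⊤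
      · right
        rw [hsucc]
        exact eq_top_iff.2 fun x _ z hz => by rw [htop]; exact Submodule.mem_top
      · left
        obtain ⟨w, hw, hwz⟩ := exists_fixed_mod ρ Z hZ (Wk k) (hmem k) htop
        have hlt : Wk k < Wk (k + 1) := by
          refine lt_of_le_of_ne (fun x hx => by rw [hsucc]; exact fun z hz => hinv k z hz x hx) fun e => hw ?_
          rw [e, hsucc]; exact hwz
        have h1 := Submodule.finrank_lt_finrank_of_lt hlt
        rcases ih with h | h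
        · omega
        · exact absurd h htop
  have hstep : ∀ k, (∀ z ∈ Z, ρ z v - v ∈ Wk (k + 1)) → ∀ z ∈ Z, ρ z v - v ∈ Wk k := by
    intro k hk
    have hadd : ∀ y ∈ Z, ∀ z ∈ Z,
        (ρ (y * z) v - v) - ((ρ y v - v) + (ρ z v - v)) ∈ Wk k := by
      intro y hy z hz
      have h1 := hk z hz
      rw [hsucc] at h1
      have h2 := h1 y hy
      rw [map_sub, ← mul_apply'] at h2
      rwa [show (ρ (y * z) v - v) - ((ρ y v - v) + (ρ z v - v)) = ρ (y * z) v - ρ y v - (ρ z v - v) by abel]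
    have hconj : ∀ g : G, ρ g v = v → ∀ y, ρ (g * y * g⁻¹) v - v = ρ g (ρ y v - v) := by
      intro g hg y
      have h1 : ρ g⁻¹ v = v := by conv_lhs => rw [← hg, inv_apply_self]
      rw [mul_apply', h1, mul_apply', map_sub, hg]
    intro z hz
    obtain ⟨w, hw, rfl⟩ := hsurja z hz
    obtain ⟨y, hy, rfl⟩ := hsurjb w hw
    have hyi : y⁻¹ = y := inv_eq_of_mul_eq_one_right (hsq y hy)
    set p := a * (b * y * b⁻¹) * a⁻¹ with hp
    set q := a * y * a⁻¹ with hq
    set r := b * y * b⁻¹ with hr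
    have hrZ := hbZ y hy
    have hqZ := haZ y hy
    have hpZ : p ∈ Z := haZ _ hrZ
    have hz' : a * (b * y * b⁻¹ * y⁻¹) * a⁻¹ * (b * y * b⁻¹ * y⁻¹)⁻¹ = p * q * (y * r) := by
      have e1 : a * (b * y * b⁻¹ * y⁻¹) * a⁻¹ = p * q := by
        rw [hp, hq, hyi, hr]; group
      rw [e1, mul_inv_rev, inv_inv, show (b * y * b⁻¹)⁻¹ = r from inv_eq_of_mul_eq_one_right (hsq _ hrZ)]
    rw [hz']
    have k1 := hadd (p * q) (Z.mul_mem hpZ hqZ) (y * r) (Z.mul_mem hy hrZ)
    have k2 := hadd p hpZ q hqZ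
    have k3 := hadd y hy r hrZ
    have k4 : (ρ p v - v) + (ρ q v - v) + ((ρ y v - v) + (ρ r v - v)) = 0 := by
      have h0 := hzero (ρ y v - v)
      simp only [sub_apply'] at h0
      rw [← hconj b hbv, ← hr] at h0
      rw [map_sub, ← hconj a hav, ← hconj a hav, ← hp, ← hq] at h0
      rw [sub_eq_add' (ρ p v - v) (ρ q v - v), sub_eq_add' (ρ r v - v) (ρ y v - v), sub_eq_add'] at h0
      rw [add_comm (ρ y v - v) (ρ r v - v)]
      exact h0
    have := Submodule.add_mem _ k1 (Submodule.add_mem _ k2 k3)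
    have e : (ρ (p * q * (y * r)) v - v - (ρ (p * q) v - v + (ρ (y * r) v - v))) +
        ((ρ (p * q) v - v - (ρ p v - v + (ρ q v - v))) + (ρ (y * r) v - v - (ρ y v - v + (ρ r v - v)))) =
        ρ (p * q * (y * r)) v - v - ((ρ p v - v) + (ρ q v - v) + ((ρ y v - v) + (ρ r v - v))) := by abel
    rwa [e, k4, sub_zero] at this
  have hdown : ∀ k, (∀ z ∈ Z, ρ z v - v ∈ Wk k) → ∀ z ∈ Z, ρ z v - v ∈ Wk 0 := by
    intro k
    induction k with
    | zero => exact fun h => h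
    | succ k ih => exact fun h => ih (hstep k h)
  have htop : Wk (finrank (ZMod 2) V + 1) = ⊤ := by
    rcases hgrow (finrank (ZMod 2) V + 1) with h | h
    · have := Submodule.finrank_le (Wk (finrank (ZMod 2) V + 1)); omega
    · exact h
  intro z hz
  have h0 := hdown _ (fun z hz => by rw [htop]; exact Submodule.mem_top) z hz
  exact sub_eq_zero.1 ((Submodule.mem_bot (ZMod 2)).1 h0)

/-- Commuting inverted tori of orders seven and three when `Z` has order 64. -/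
theorem six_le_rk_of_tori {a b i : G} (ha : a ^ 7 = 1) (hb : b ^ 3 = 1) (hai : i * a * i⁻¹ = a⁻¹)
    (hbi : i * b * i⁻¹ = b⁻¹) (hab : Commute a b) (hi : i * i = 1) (hcommZ : ∀ y ∈ Z, ∀ z ∈ Z, Commute y z)
    (hsq : ∀ z ∈ Z, z * z = 1) (hZ : IsPGroup 2 Z) (haZ : ∀ z ∈ Z, a * z * a⁻¹ ∈ Z) (hbZ : ∀ z ∈ Z, b * z * b⁻¹ ∈ Z)
    (hfa : ∀ z ∈ Z, Commute a z → z = 1) (hfb : ∀ z ∈ Z, Commute b z → z = 1)
    (hgen : Subgroup.closure (insert i (Z : Set G)) = ⊤)
    (hirr : ∀ U : Submodule (ZMod 2) V, (∀ g, ∀ v ∈ U, ρ g v ∈ U) → U = ⊥ ∨ U = ⊤)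
    (hnt : ∃ z ∈ Z, ρ z ≠ 1) (hdim : 12 ≤ finrank (ZMod 2) V) : 6 ≤ rk ρ i := by
  classical
  set d := a * b with hd
  have hd7 : d ^ 7 = b := by rw [hd, hab.mul_pow, ha, one_mul, show (7 : ℕ) = 3 * 2 + 1 from rfl, pow_succ, pow_mul, hb, one_pow, one_mul]
  have hd15 : d ^ 15 = a := by
    rw [hd, hab.mul_pow, show (15 : ℕ) = 7 * 2 + 1 from rfl, pow_succ a, pow_mul, ha, one_pow, one_mul,
      show (7 * 2 + 1 : ℕ) = 3 * 5 from rfl, pow_mul, hb, one_pow, mul_one]
  have hd21 : d ^ 21 = 1 := by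
    rw [show (21 : ℕ) = 7 * 3 from rfl, pow_mul, hd7, hb]
  have hid : i * d * i⁻¹ = d⁻¹ := by
    rw [hd, show i * (a * b) * i⁻¹ = (i * a * i⁻¹) * (i * b * i⁻¹) by group, hai, hbi, ← mul_inv_rev, hab.eq]
  have hdfix : ∀ v, ρ d v = v → ρ a v = v ∧ ρ b v = v := fun v hv =>
    ⟨by have := apply_pow_fixed ρ hv 15; rwa [hd15] at this, by have := apply_pow_fixed ρ hv 7; rwa [hd7] at this⟩
  set P := range (ρ a - 1) ⊓ range (ρ b - 1) with hP
  have hPd : ∀ v ∈ P, ρ d v ∈ P := fun v hv =>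
    ⟨range_invariant_of_commute ρ ((Commute.refl a).mul_right hab) v hv.1,
      range_invariant_of_commute ρ (hab.symm.mul_right (Commute.refl b)) v hv.2⟩
  have hPi : ∀ v ∈ P, ρ i v ∈ P := fun v hv =>
    ⟨(ker_range_invariant ρ hai hi).2 v hv.1, (ker_range_invariant ρ hbi hi).2 v hv.2⟩
  have hsr : ∀ j, 0 < j → j < 21 → ∀ v ∈ P, ρ (d ^ j) v = v → v = 0 := by
    intro j hj hj21 v hv e
    rcases Nat.eq_zero_or_pos (j % 7) with h7 | h7
    · -- then a power of `b` fixes `v`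
      refine disjoint_ker_range ρ (by decide : Odd 3) hb ((mem_ker_sub_one ρ).2 ?_) hv.2
      have h3 : j = 7 ∨ j = 14 := by omega
      rcases h3 with rfl | rfl
      · rwa [hd7] at e
      · have h4 := apply_pow_fixed ρ e 2
        rw [← pow_mul, show 14 * 2 = 7 * 4 from rfl, pow_mul, hd7, show (4 : ℕ) = 3 + 1 from rfl, pow_succ, hb, one_mul] at h4
        exact h4
    · refine disjoint_ker_range ρ (by decide : Odd 7) ha ((mem_ker_sub_one ρ).2 ?_) hv.1
      -- choose `m` with `15 * m ≡ j` inverse modulo seven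
      have h4 := apply_pow_fixed ρ e (15 * ((j % 7) ^ 5))
      rw [← pow_mul, show j * (15 * (j % 7) ^ 5) = 15 * (j * (j % 7) ^ 5) by ring, pow_mul, hd15,
        ← pow_mod_orderOf] at h4
      rcases eq_or_ne a 1 with rfl | ha1
      · rw [map_one]; rfl
      haveI : Fact (Nat.Prime 7) := ⟨by norm_num⟩
      rw [orderOf_eq_prime ha ha1] at h4
      have h5 : (j * (j % 7) ^ 5) % 7 = 1 := by
        rw [Nat.mul_mod]
        have h6 : j % 7 < 7 := Nat.mod_lt _ (by norm_num)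
        interval_cases (j % 7) <;> rfl
      rw [h5, pow_one] at h4
      exact h4
  rcases Nat.lt_or_ge (finrank (ZMod 2) P) 12 with hlt | hge
  swap
  · have := fpf_rank ρ (by decide : Odd 21) hd21 hi hid P hPd hPi
      (fun v hv e => hsr 1 one_pos (by norm_num) v hv (by rwa [pow_one]))
    omega
  have hP0 : P = ⊥ := by
    have h1 := semiregular_dvd ρ (by norm_num : 0 < 21) hd21 P hPd hsr
    have h2 := semiregular_bound ρ (by decide : Odd 21) hd21 hi hid P hPd hPi hsr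
    refine Submodule.finrank_eq_zero.1 ?_
    generalize finrank (ZMod 2) P = p at h1 h2 hlt ⊢
    interval_cases p
    all_goals first | rfl | (norm_num at h1; done) | (norm_num at h2; done)
  have hzero : ∀ v, (ρ a - 1) ((ρ b - 1) v) = 0 := fun v => (Submodule.mem_bot (ZMod 2)).1 (hP0 ▸
    ⟨⟨_, rfl⟩, ⟨(ρ a - 1) v, by
      simp only [sub_apply', map_sub, ← mul_apply', hab.eq]; abel⟩⟩)
  have hker : ker (ρ d - 1) = ⊥ := by
    refine ker_eq_bot_of_isolated ρ Z (d := d) (q := 21) ?_ ?_ hZ (by decide) hd21 hi hid hgen hirr hnt ?_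
    · intro z hz
      rw [hd, show a * b * z * (a * b)⁻¹ = a * (b * z * b⁻¹) * a⁻¹ by group]
      exact haZ _ (hbZ z hz)
    · refine exists_comm_preimage Z hcommZ (fun z hz => ?_) fun z hz hc => hfa z hz ?_
      · rw [hd, show a * b * z * (a * b)⁻¹ = a * (b * z * b⁻¹) * a⁻¹ by group]
        exact haZ _ (hbZ z hz)
      · have := hc.pow_left 15
        rwa [hd15] at this
    · intro v hv
      obtain ⟨hva, hvb⟩ := hdfix v ((mem_ker_sub_one ρ).1 hv)
      exact fixed_by_of_tori ρ Z hcommZ hsq hZ haZ hbZ (exists_comm_preimage Z hcommZ haZ hfa)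
        (exists_comm_preimage Z hcommZ hbZ hfb) hzero hva hvb
  have := fpf_rank ρ (by decide : Odd 21) hd21 hi hid ⊤ (fun _ _ => Submodule.mem_top) (fun _ _ => Submodule.mem_top)
    (fun v _ e => (Submodule.mem_bot (ZMod 2)).1 (hker ▸ (mem_ker_sub_one ρ).2 e))
  rw [finrank_top] at this
  omega

end CfsgLib.Bender.ModRank
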