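import Cfsg.Agent.Lib.Bender.Consumers.ModRank.Lines
import Cfsg.Agent.Lib.Bender.Consumers.ModRank.Six
import Cfsg.Agent.Lib.Bender.Consumers.ModRank.Torus

/-!
# The rank of an involution in a faithful module of a group with a strongly embedded subgroup
-/

set_option autoImplicit false
set_option linter.unusedSectionVars false
set_option linter.style.haveILetI false

namespace CfsgLib.Bender.ModRank

open Subgroup Module CfsgLib.Invol

universe u v

/-- The dimension bound used for the torus. -/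
def DimLaw : Prop :=
  ∀ (G : Type u) [Group G] [Finite G] (H : Subgroup G), Cfsg.IsStronglyEmbedded H → CfsgLib.Bender.HasPair G →
    ∀ (V : Type v) [AddCommGroup V] [Module (ZMod 2) V] [Module.Finite (ZMod 2) V]
      (ρ : Representation (ZMod 2) G V), Function.Injective ρ →
    ∀ (S : Sylow 2 G) (k : ℕ), Nat.card (S : Subgroup G) = 2 ^ k → k ≠ 3 → 2 * k ≤ finrank (ZMod 2) V

/-- Sylow subgroups of order eight are elementary abelian. -/
def EightLaw : Prop :=
  ∀ (G : Type u) [Group G] [Finite G] (H : Subgroup G), Cfsg.IsStronglyEmbedded H → CfsgLib.Bender.HasPair G →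
    ∀ (S : Sylow 2 G), Nat.card (S : Subgroup G) = 8 → ∀ s ∈ (S : Subgroup G), s ^ 2 = 1

variable {G : Type u} [Group G] [Finite G] {H Z : Subgroup G} {n : ℕ}

/-- An odd power which is a square root: elements inverted and centralized are trivial. -/
theorem eq_one_of_inverted_centralized {i m : G} (hm : Odd (orderOf m)) (hinv : i * m * i⁻¹ = m⁻¹)
    (hc : Commute m i) : m = 1 := by
  rw [← hc.eq, mul_inv_cancel_right] at hinv
  refine orderOf_eq_one_iff.1 (Nat.eq_one_of_dvd_coprimes (Nat.coprime_two_left.2 hm)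
    (orderOf_dvd_of_pow_eq_one ?_) dvd_rfl)
  rw [pow_two]; nth_rewrite 1 [hinv]; rw [inv_mul_cancel]

/-- Lift an inverted element of prime order along a central odd quotient. -/
theorem Frame.exists_lift (h : Frame H Z n) (hN : ∀ m ∈ H.normalCore, ∀ x : G, Commute m x) {i : G}
    (hi : orderOf i = 2) (hiH : i ∉ H) {q : ℕ} (hq : Odd q) {d' : G ⧸ H.normalCore}
    (hd' : d' ∈ twoStab (H.map (QuotientGroup.mk' H.normalCore)) (QuotientGroup.mk' H.normalCore i))
    (hdq : d' ^ q = 1) (hinv : QuotientGroup.mk' H.normalCore i * d' * (QuotientGroup.mk' H.normalCore i)⁻¹ = d'⁻¹)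
    (hfree : ∀ z ∈ Z.map (QuotientGroup.mk' H.normalCore), Commute d' z → z = 1) :
    ∃ e ∈ twoStab H i, e ^ q = 1 ∧ i * e * i⁻¹ = e⁻¹ ∧ QuotientGroup.mk' H.normalCore e = d'⁻¹ * d'⁻¹ ∧
      ∀ z ∈ Z, Commute e z → z = 1 := by
  obtain ⟨d, rfl⟩ := QuotientGroup.mk'_surjective H.normalCore d'
  set N := H.normalCore with hNdef
  set f := QuotientGroup.mk' N with hf
  have hmem : ∀ g, f g ∈ H.map f → g ∈ H := fun g => by
    rintro ⟨x, hx, e⟩
    have h2 := H.mul_mem hx (H.normalCore_le ((QuotientGroup.eq (s := N)).1 e))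
    rwa [mul_inv_cancel_left] at h2
  obtain ⟨hd1, hd2⟩ := mem_twoStab.1 hd'
  rw [← map_inv, ← map_mul, ← map_mul] at hd2
  have hdT : d ∈ twoStab H i := mem_twoStab.2 ⟨hmem d hd1, hmem _ hd2⟩
  set e := i * d * i⁻¹ * d⁻¹ with he
  have hii : i * i = 1 := invol_mul_self hi
  have heT : e ∈ twoStab H i := mul_mem (h.normalizes_twoStab hN hi hiH hdT) (inv_mem hdT)
  have hfe : f e = (f d)⁻¹ * (f d)⁻¹ := by rw [he, map_mul, map_mul, map_mul, map_inv, hinv, map_inv]
  have hei : i * e * i⁻¹ = e⁻¹ := by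
    rw [he, show i * (i * d * i⁻¹ * d⁻¹) * i⁻¹ = (i * i) * d * (i⁻¹ * d⁻¹ * i⁻¹) by group, hii, one_mul,
      show (i * d * i⁻¹ * d⁻¹)⁻¹ = d * (i * d⁻¹ * i⁻¹) by group, invol_inv hi]
  have heN : e ^ q ∈ N := by
    refine (QuotientGroup.eq_one_iff _).1 ?_
    show f (e ^ q) = 1
    rw [map_pow, hfe, (Commute.refl _).mul_pow, inv_pow, hdq, inv_one, mul_one]
  refine ⟨e, heT, eq_one_of_inverted_centralized
    ((CfsgLib.Bender.Full.odd_normalCore h.se).of_dvd_nat (orderOf_dvd_natCard N heN))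
    (by rw [← conj_pow, hei, inv_pow]) (hN _ heN i), hei, hfe, fun z hz hez => ?_⟩
  have h1 : Commute (f e) (f z) := hez.map f
  rw [hfe, ← mul_inv_rev, Commute.inv_left_iff, ← pow_two] at h1
  obtain ⟨c, hc⟩ := hq
  have h2 := h1.pow_left (c + 1)
  rw [← pow_mul, show 2 * (c + 1) = q + 1 by omega, pow_succ, hdq, one_mul] at h2
  have h3 : z ∈ N := (QuotientGroup.eq_one_iff z).1 (hfree (f z) (mem_map_of_mem f hz) h2)
  have h4 := orderOf_dvd_natCard Z hz
  rw [h.card] at h4
  exact orderOf_eq_one_iff.1 (Nat.eq_one_of_dvd_coprimes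
    ((Nat.coprime_two_left.2 (CfsgLib.Bender.Full.odd_normalCore h.se)).pow_left n) h4 (orderOf_dvd_natCard N h3))

section

variable {V : Type v} [AddCommGroup V] [Module (ZMod 2) V] [Module.Finite (ZMod 2) V]

/-- All involutions have the same rank. -/
theorem rk_eq_of_invol (hH : Cfsg.IsStronglyEmbedded H) (ρ : Representation (ZMod 2) G V) {s t : G}
    (hs : orderOf s = 2) (ht : orderOf t = 2) : rk ρ s = rk ρ t := by
  obtain ⟨g, hg⟩ := isConj_iff.1 (exists_conj_fixing hH hs ht)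
  rw [← hg, rk_conj]

/-- The induction step. -/
theorem le_rk_step (hdim : DimLaw.{u, v}) (height : EightLaw.{u}) (ih : Below G V)
    (ρ : Representation (ZMod 2) G V) (h : Frame H Z n) (hne : ∀ t, orderOf t = 2 → ρ t ≠ 1) :
    ∃ t, orderOf t = 2 ∧ n ≤ rk ρ t := by
  classical
  haveI : Fact (Nat.Prime 2) := ⟨Nat.prime_two⟩
  obtain ⟨z₀, hz₀, hz₀o⟩ := h.exists_invol
  -- (1) faithful
  by_cases hinj : Function.Injective ρ
  swap
  · set K := MonoidHom.ker ρ with hK
    have hKodd : Odd (Nat.card K) := by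
      refine Nat.not_even_iff_odd.1 fun he => ?_
      obtain ⟨t, ht, hto⟩ := exists_invol_mem he
      exact hne t hto ht
    have hK1 : K ≠ ⊥ := fun e => hinj fun x y hxy => by
      have h1 : x⁻¹ * y ∈ K := by
        show ρ (x⁻¹ * y) = 1
        rw [map_mul, ← hxy, ← map_mul, inv_mul_cancel, map_one]
      rw [e, mem_bot, inv_mul_eq_one] at h1
      exact h1
    let ρ' : Representation (ZMod 2) (G ⧸ K) V := QuotientGroup.lift K ρ le_rfl
    have hlt : Nat.card (G ⧸ K) < Nat.card G := by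
      rw [card_eq_card_quotient_mul_card_subgroup K]
      exact lt_mul_of_one_lt_right Nat.card_pos
        (Finite.one_lt_card_iff_nontrivial.2 ((nontrivial_iff_ne_bot K).2 hK1))
    have hz' : orderOf (QuotientGroup.mk' K z₀) = 2 := invol_iff.2 ⟨by rw [← map_mul, invol_mul_self hz₀o, map_one],
      fun e => hne z₀ hz₀o ((QuotientGroup.eq_one_iff z₀).1 e)⟩
    refine ⟨z₀, hz₀o, ?_⟩
    have e0 : rk ρ z₀ = rk ρ' (QuotientGroup.mk' K z₀) := by
      unfold rk
      rw [show ρ' (QuotientGroup.mk' K z₀) = ρ z₀ from rfl]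
    rw [e0]
    exact ih (G ⧸ K) V ρ' (by omega) _ _ n (h.quotient K hKodd) (fun t ht e => by
      obtain ⟨x, rfl⟩ := QuotientGroup.mk'_surjective K t
      exact invol_ne_one ht ((QuotientGroup.eq_one_iff x).2 e)) _ hz'
  -- (2) irreducible
  by_cases hirr : ∀ U : Submodule (ZMod 2) V, (∀ g, ∀ v ∈ U, ρ g v ∈ U) → U = ⊥ ∨ U = ⊤
  swap
  · push Not at hirr
    obtain ⟨U, hU, hU0, hUtop⟩ := hirr
    by_cases hsub : ∃ t, orderOf t = 2 ∧ subRep ρ U hU t ≠ 1
    · obtain ⟨t, ht, ht1⟩ := hsub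
      have hfr := Submodule.finrank_lt hUtop
      refine ⟨t, ht, le_trans ?_ (rk_sub_le ρ U hU t)⟩
      refine ih G U (subRep ρ U hU) (by omega) H Z n h (fun s hs e => ht1 ?_) t ht
      obtain ⟨g, hg⟩ := isConj_iff.1 (exists_conj_fixing h.se hs ht)
      rw [← hg, map_mul, map_mul, e, mul_one, ← map_mul, mul_inv_cancel, map_one]
    by_cases hquo : ∃ t, orderOf t = 2 ∧ quotRep ρ U hU t ≠ 1
    · obtain ⟨t, ht, ht1⟩ := hquo
      have hfr : finrank (ZMod 2) (V ⧸ U) < finrank (ZMod 2) V := by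
        have h1 := U.finrank_quotient_add_finrank
        have h2 : 0 < finrank (ZMod 2) U := Submodule.one_le_finrank_iff.2 hU0
        omega
      refine ⟨t, ht, le_trans ?_ (rk_quot_le ρ U hU t)⟩
      refine ih G (V ⧸ U) (quotRep ρ U hU) (by omega) H Z n h (fun s hs e => ht1 ?_) t ht
      obtain ⟨g, hg⟩ := isConj_iff.1 (exists_conj_fixing h.se hs ht)
      rw [← hg, map_mul, map_mul, e, mul_one, ← map_mul, mul_inv_cancel, map_one]
    exfalso
    push Not at hsub hquo
    -- all involutions commute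
    obtain ⟨g, hg⟩ : ∃ g : G, g ∉ H := by
      by_contra hh
      push Not at hh
      exact h.se.1 (eq_top_iff.2 fun x _ => hh x)
    set i := g * z₀ * g⁻¹ with hidef
    have hi : orderOf i = 2 := invol_conj hz₀o g
    have hiH : i ∉ H := fun hh => hg (mem_of_conj_mem h.se (h.le hz₀) hz₀o hh)
    have hfixU : ∀ t, orderOf t = 2 → ∀ u ∈ U, ρ t u = u := fun t ht u hu => by
      have h2 := LinearMap.congr_fun (hsub t ht) (⟨u, hu⟩ : U)
      exact congrArg Subtype.val h2
    have hdiff : ∀ t, orderOf t = 2 → ∀ w, ρ t w - w ∈ U := fun t ht w => by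
      have h2 := LinearMap.congr_fun (hquo t ht) (Submodule.Quotient.mk w)
      rw [quotRep_apply, Module.End.one_apply, Submodule.Quotient.eq] at h2
      exact h2
    have hcomm : z₀ * i = i * z₀ := hinj (LinearMap.ext fun w => by
      rw [mul_apply' ρ z₀ i, mul_apply' ρ i z₀]
      have e1 := hfixU z₀ hz₀o _ (hdiff i hi w)
      have e2 := hfixU i hi _ (hdiff z₀ hz₀o w)
      rw [map_sub] at e1 e2
      rw [sub_eq_iff_eq_add.1 e1, sub_eq_iff_eq_add.1 e2]
      abel)
    refine hiH (mem_of_conj_mem h.se (h.le hz₀) hz₀o (g := i) ?_)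
    rw [← hcomm, mul_inv_cancel_right]
    exact h.le hz₀
  obtain ⟨g, hg⟩ : ∃ g : G, g ∉ H := by
    by_contra hh
    push Not at hh
    exact h.se.1 (eq_top_iff.2 fun x _ => hh x)
  set i := g * z₀ * g⁻¹ with hidef
  have hi : orderOf i = 2 := invol_conj hz₀o g
  have hiH : i ∉ H := fun hh => hg (mem_of_conj_mem h.se (h.le hz₀) hz₀o hh)
  -- a proper subgroup containing `Z` and an involution outside `H`
  have hproper : ∀ M : Subgroup G, Z ≤ M → ∀ t ∈ M, t ∉ H → M ≠ ⊤ → ∃ s, orderOf s = 2 ∧ n ≤ rk ρ s := by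
    intro M hZM t htM htH hM
    have hlt : Nat.card M < Nat.card G := lt_of_le_of_ne (card_le_card_group M) fun e => hM (eq_top_of_card_eq M e)
    refine ⟨z₀, hz₀o, ?_⟩
    have e0 : rk ρ z₀ = rk (ρ.comp M.subtype : Representation (ZMod 2) M V) ⟨z₀, hZM hz₀⟩ :=
      (rk_comp ρ M.subtype ⟨z₀, hZM hz₀⟩).symm
    rw [e0]
    exact ih M V (ρ.comp M.subtype) (by omega) _ _ n (h.sub hZM htM htH)
      (fun s hs => hne s (by rwa [Subgroup.orderOf_coe])) ⟨z₀, hZM hz₀⟩ (by rwa [Subgroup.orderOf_mk])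
  -- (3) the core is centralized
  by_cases hmv : ∃ z ∈ Z, ∃ k ∈ H.normalCore, z * k * z⁻¹ ≠ k
  · exact h.le_rk_of_moves_core ρ hinj hmv
  push Not at hmv
  have hcen : ∀ t, orderOf t = 2 → ∀ m ∈ H.normalCore, Commute t m := by
    intro t ht m hm
    obtain ⟨x, hx⟩ := isConj_iff.1 (exists_conj_fixing h.se hz₀o ht)
    have h1 : x⁻¹ * m * x ∈ H.normalCore := by
      have := (inferInstance : H.normalCore.Normal).conj_mem m hm x⁻¹
      rwa [inv_inv] at this
    have h2 : Commute z₀ (x⁻¹ * m * x) := mul_inv_eq_iff_eq_mul.1 (hmv z₀ hz₀ _ h1)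
    have h3 := h2.map (MulAut.conj x).toMonoidHom
    simp only [MulEquiv.coe_toMonoidHom, MulAut.conj_apply] at h3
    rwa [hx, show x * (x⁻¹ * m * x) * x⁻¹ = m by group] at h3
  by_cases hgen : closure (insert i (Z : Set G)) = ⊤
  swap
  · exact hproper _ (fun z hz => subset_closure (Set.mem_insert_of_mem _ hz)) i
      (subset_closure (Set.mem_insert _ _)) hiH hgen
  have hN : ∀ m ∈ H.normalCore, ∀ x : G, Commute m x := by
    intro m hm x
    have hle : closure (insert i (Z : Set G)) ≤ centralizer ({m} : Set G) := by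
      refine (closure_le _).2 fun y hy => mem_centralizer_singleton_iff.2 ?_
      rcases hy with rfl | hy
      · exact (hcen _ hi m hm).eq
      · exact mul_inv_eq_iff_eq_mul.1 (hmv y hy m hm)
    exact (mem_centralizer_singleton_iff.1 (hle (hgen ▸ mem_top x))).symm
  -- (4) the two-point stabilizer is faithful on `Z`
  by_cases hfaith : ∀ c ∈ twoStab H i, (∀ z ∈ Z, Commute c z) → c ∈ H.normalCore
  swap
  · push Not at hfaith
    obtain ⟨c, hc, hcz, hcN⟩ := hfaith
    obtain ⟨t, ht, htH, htc⟩ := h.exists_outside hN hi hiH hc hz₀ (invol_ne_one hz₀o) (hcz z₀ hz₀)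
    refine hproper (centralizer ({c} : Set G)) (fun z hz => mem_centralizer_singleton_iff.2 (hcz z hz).eq.symm) t
      (mem_centralizer_singleton_iff.2 htc.eq) htH fun e => hcN ?_
    have hcc : ∀ x, Commute c x := fun x =>
      (mem_centralizer_singleton_iff.1 (show x ∈ centralizer ({c} : Set G) by rw [e]; exact mem_top x)).symm
    haveI : (zpowers c).Normal := ⟨fun y hy x => by
      obtain ⟨j, rfl⟩ := mem_zpowers_iff.1 hy
      rw [← ((hcc x).zpow_left j).eq, mul_inv_cancel_right]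
      exact zpow_mem (mem_zpowers c) j⟩
    exact normal_le_normalCore.2 (zpowers_le.2 (mem_twoStab.1 hc).1) (mem_zpowers c)
  -- (5) tori
  refine ⟨i, hi, ?_⟩
  have hii : i * i = 1 := invol_mul_self hi
  have hnt : ∃ z ∈ Z, ρ z ≠ 1 := ⟨z₀, hz₀, hne z₀ hz₀o⟩
  have hcommZ : ∀ a ∈ Z, ∀ b ∈ Z, Commute a b := fun a ha b hb => h.commute ha hb
  have hdimV : n ≠ 3 → 2 * n ≤ finrank (ZMod 2) V := by
    intro hn3
    obtain ⟨P, hZP, hPH⟩ := h.exists_sylow
    obtain ⟨k, hk⟩ := IsPGroup.iff_card.1 P.2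
    have hnk : n ≤ k := by
      have h1 := Nat.le_of_dvd Nat.card_pos (card_dvd_of_le hZP)
      rw [h.card, hk] at h1
      exact (Nat.pow_le_pow_iff_right one_lt_two).1 h1
    by_cases hk3 : k = 3
    · exfalso
      have hn2 : n = 2 := by have := h.two_le; omega
      have h8 := height G H h.se h.hasPair P (by rw [hk, hk3]; norm_num)
      have hle : (P : Subgroup G) ≤ Z := fun p hp => by
        by_cases hp1 : p = 1
        · rw [hp1]; exact Z.one_mem
        · exact h.omega P P.2 hZP p hp (invol_iff.2 ⟨by rw [← pow_two]; exact h8 p hp, hp1⟩)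
      have h1 := Nat.le_of_dvd Nat.card_pos (card_dvd_of_le hle)
      rw [h.card, hk, hk3, hn2] at h1
      omega
    have := hdim G H h.se h.hasPair V ρ hinj P k hk hk3
    omega
  by_cases hn6 : n = 6
  · subst hn6
    set N := H.normalCore with hNdef
    set f := QuotientGroup.mk' N with hf
    have hNodd : Odd (Nat.card N) := CfsgLib.Bender.Full.odd_normalCore h.se
    have hmem : ∀ x, f x ∈ H.map f → x ∈ H := fun x => by
      rintro ⟨y, hy, e⟩
      have h2 := H.mul_mem hy (H.normalCore_le ((QuotientGroup.eq (s := N)).1 e))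
      rwa [mul_inv_cancel_left] at h2
    have h' := h.quotient N hNodd
    have hcore : (H.map f).normalCore = ⊥ := by
      refine (eq_bot_iff_forall _).2 fun x hx => ?_
      obtain ⟨y, rfl⟩ := QuotientGroup.mk'_surjective N x
      have h1 : ((H.map f).normalCore).comap f ≤ N :=
        normal_le_normalCore.2 fun y hy => hmem y (normalCore_le _ hy)
      exact (QuotientGroup.eq_one_iff y).2 (h1 hx)
    have hfi : orderOf (f i) = 2 := invol_iff.2 ⟨by rw [← map_mul, hii, map_one],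
      fun e => hiH (H.normalCore_le ((QuotientGroup.eq_one_iff i).1 e))⟩
    have hfaith' : ∀ c ∈ twoStab (H.map f) (f i), (∀ z ∈ Z.map f, Commute c z) → c = 1 := by
      intro c hc hcz
      obtain ⟨c, rfl⟩ := QuotientGroup.mk'_surjective N c
      obtain ⟨hc1, hc2⟩ := mem_twoStab.1 hc
      rw [← map_inv, ← map_mul, ← map_mul] at hc2
      have hcT : c ∈ twoStab H i := mem_twoStab.2 ⟨hmem c hc1, hmem _ hc2⟩
      refine (QuotientGroup.eq_one_iff c).2 (hfaith c hcT fun z hz => ?_)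
      have h1 : z⁻¹ * (c * z * c⁻¹) ∈ N := (QuotientGroup.eq (s := N)).1 (by
        show f z = f (c * z * c⁻¹)
        rw [map_mul, map_mul, map_inv, (hcz (f z) (mem_map_of_mem f hz)).eq, mul_inv_cancel_right])
      have h2 := orderOf_dvd_natCard Z (Z.mul_mem (Z.inv_mem hz) (h.conj_mem hN (hmem c hc1) hz))
      rw [h.card] at h2
      have h3 := orderOf_eq_one_iff.1 (Nat.eq_one_of_dvd_coprimes
        ((Nat.coprime_two_left.2 hNodd).pow_left 6) h2 (orderOf_dvd_natCard N h1))
      exact mul_inv_eq_iff_eq_mul.1 (inv_mul_eq_one.1 h3).symm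
    obtain ⟨a', b', ha', hb', ha7, hb3, hai', hbi', hab', hfa', hfb'⟩ :=
      h'.exists_pair_six hcore hfi (fun e => hiH (hmem i e)) hfaith'
    obtain ⟨a, haT, ha, hai, hfa, hfra⟩ := h.exists_lift hN hi hiH (by decide : Odd 7) ha' ha7 hai' hfa'
    obtain ⟨b, hbT, hb, hbi, hfb, hfrb⟩ := h.exists_lift hN hi hiH (by decide : Odd 3) hb' hb3 hbi' hfb'
    have hab : Commute a b := by
      have h1 : Commute (f a) (f b) := by
        rw [hfa, hfb]
        exact (hab'.inv_inv.mul_right hab'.inv_inv).mul_left (hab'.inv_inv.mul_right hab'.inv_inv)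
      set m := a * b * a⁻¹ * b⁻¹ with hm
      have hmN : m ∈ N := (QuotientGroup.eq_one_iff m).1 (by
        show f m = 1
        rw [hm, map_mul, map_mul, map_mul, map_inv, map_inv, h1.eq]; group)
      have hconj : a * b * a⁻¹ = m * b := by rw [hm]; group
      have hpow : ∀ j : ℕ, a ^ j * b * (a ^ j)⁻¹ = m ^ j * b := by
        intro j
        induction j with
        | zero => simp
        | succ j ihj =>
          calc a ^ (j + 1) * b * (a ^ (j + 1))⁻¹ = a * (a ^ j * b * (a ^ j)⁻¹) * a⁻¹ := by rw [pow_succ']; group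
            _ = (a * m ^ j * a⁻¹) * (a * b * a⁻¹) := by rw [ihj]; group
            _ = _ := by rw [← (hN _ (pow_mem hmN j) a).eq, mul_inv_cancel_right, hconj, pow_succ]; exact (mul_assoc _ _ _).symm
      have h7 : m ^ 7 = 1 := by
        have := hpow 7
        rw [ha, one_mul, inv_one, mul_one] at this
        exact mul_eq_right.1 this.symm
      have h3 : m ^ 3 = 1 := by
        have : (a * b * a⁻¹) ^ 3 = (m * b) ^ 3 := by rw [hconj]
        rw [conj_pow, hb, (hN m hmN b).mul_pow, hb, mul_one, mul_one, mul_inv_cancel] at this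
        exact this.symm
      have hm1 : m = 1 := by
        have := pow_gcd_eq_one.2 ⟨h7, h3⟩
        rwa [show Nat.gcd 7 3 = 1 from rfl, pow_one] at this
      exact mul_inv_eq_iff_eq_mul.1 (mul_inv_eq_one.1 hm1)
    exact six_le_rk_of_tori ρ Z ha hb hai hbi hab hii hcommZ h.sq h.isPGroup
      (fun z hz => h.conj_mem hN (mem_twoStab.1 haT).1 hz) (fun z hz => h.conj_mem hN (mem_twoStab.1 hbT).1 hz)
      hfra hfrb hgen hirr hnt (by have := hdimV (by norm_num); omega)
  · obtain ⟨r, hr, hrd, hrp⟩ := CfsgLib.Char.Zsigmondy.exists_prim 2 n one_lt_two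
      (by have := h.two_le; omega) (fun hh => hn6 hh.2) (by
        rintro ⟨-, m, hm⟩
        rcases m with _ | m
        · norm_num at hm
        · rw [pow_succ] at hm; omega)
    have hr2 : Odd r := by
      refine Odd.of_dvd_nat ?_ hrd
      refine Nat.Even.sub_odd (Nat.one_le_pow _ _ two_pos) ?_ odd_one
      exact (Nat.even_pow).2 ⟨even_two, by have := h.two_le; omega⟩
    obtain ⟨d, hdT, hdr, hdi, hfree⟩ := h.exists_inverted hN hi hiH hr hr2 hrd hrp hfaith
    have hd1 : d ≠ 1 := fun e => invol_ne_one hz₀o (hfree z₀ hz₀ (e ▸ Commute.one_left z₀))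
    exact le_rk_of_torus ρ Z h.two_le hr hr2 hrd hrp h.isPGroup hcommZ
      (fun z hz => h.conj_mem hN (mem_twoStab.1 hdT).1 hz) hfree hdr hii hdi hinj hd1 hgen hirr hnt hdimV

end

/-- The rank bound. -/
theorem le_rk (hdim : DimLaw.{u, v}) (height : EightLaw.{u}) {V : Type v} [AddCommGroup V] [Module (ZMod 2) V]
    [Module.Finite (ZMod 2) V] (ρ : Representation (ZMod 2) G V) (h : Frame H Z n)
    (hne : ∀ t, orderOf t = 2 → ρ t ≠ 1) {s : G} (hs : orderOf s = 2) : n ≤ rk ρ s := by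
  suffices H' : ∀ N : ℕ, ∀ (G' : Type u) [Group G'] [Finite G'] (V' : Type v) [AddCommGroup V'] [Module (ZMod 2) V']
      [Module.Finite (ZMod 2) V'] (ρ' : Representation (ZMod 2) G' V'),
      Nat.card G' + finrank (ZMod 2) V' < N →
      ∀ (H' Z' : Subgroup G') (n : ℕ), Frame H' Z' n → (∀ t, orderOf t = 2 → ρ' t ≠ 1) →
        ∀ s, orderOf s = 2 → n ≤ rk ρ' s from
    H' _ G V ρ (Nat.lt_succ_self _) H Z n h hne s hs
  intro N
  induction N with
  | zero => intro G' _ _ V' _ _ _ ρ' hlt; omega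
  | succ N ih =>
    intro G' _ _ V' _ _ _ ρ' hlt H' Z' n' h' hne' s' hs'
    obtain ⟨t, ht, htn⟩ := le_rk_step hdim height
      (fun G'' _ _ V'' _ _ _ ρ'' hlt'' => ih G'' V'' ρ'' (by omega)) ρ' h' hne'
    rwa [rk_eq_of_invol h'.se ρ' hs' ht]

end CfsgLib.Bender.ModRank
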